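import Cfsg.Agent.EInvol.Layers

/-!
# The descent step
-/

set_option autoImplicit false

namespace Cfsg.Agent.EInvol

open Cfsg.Lie Cfsg.Agent.ChevGrp
open scoped MatrixGroups

variable {D : ChevalleyDatum} {len : ℕ → ℕ} {F : Type*} [Field F]

variable (D F) in
/-- Conjugate to one of the representatives, or trivial. -/
def Reach (R : List (List ℕ)) (g : GL D.Idx F) : Prop :=
  g = 1 ∨ ∃ h ∈ D.group F, ∃ l ∈ R, h * g * h⁻¹ = xS D F l

theorem Reach.of_conj {R : List (List ℕ)} {g g' h : GL D.Idx F} (hh : h ∈ D.group F)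
    (e : h * g * h⁻¹ = g') (H : Reach D F R g') : Reach D F R g := by
  rcases H with rfl | ⟨k, hk, l, hl, hkl⟩
  · exact Or.inl (conj_eq_one_iff.1 e)
  · refine Or.inr ⟨k * h, mul_mem hk hh, l, hl, ?_⟩
    rw [← hkl, ← e]
    group

variable (hS : Rules D F)

include hS in
/-- What is proved at a node. -/
def GoalAt (R : List (List ℕ)) (S : List ℕ) : Prop :=
  ∀ v ∈ (glSys hS).US (psiP D S), v * v = 1 → Reach D F R (xS D F S * v)

/-- The simple roots of the subsystem orthogonal to `S`. -/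
structure Simples (S : List ℕ) (Sim : List ℕ) : Prop where
  simple : ∀ a ∈ Sim, SimpleIn D S a
  descent : ∀ r ∈ psiP D S, r ∉ Sim → ∃ b ∈ Sim, pr D b r = 1

theorem xS_append (S : List ℕ) (a : ℕ) : xS D F (S ++ [a]) = xS D F S * X D a 1 := by
  simp [xS]

variable [CharP F 2] (hG : Good D len) {S Sim : List ℕ}

include hS hG in
theorem commute_of_fix (hlt : ∀ s ∈ S, s < D.nroots) {g : GL D.Idx F}
    (h : ∀ s ∈ S, g * X D s (1 : F) * g⁻¹ = X D s 1) : Commute g (xS D F S) := by
  refine Commute.list_prod_right _ _ fun y hy => ?_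
  obtain ⟨s, hs, rfl⟩ := List.mem_map.1 hy
  exact mul_inv_eq_iff_eq_mul.1 (h s hs)

include hG in
/-- A non-trivial element of the subsystem is conjugate to one with a non-zero simple component. -/
theorem exists_simple_component (hlt : ∀ s ∈ S, s < D.nroots) (hSim : Simples (D := D) S Sim)
    {v : GL D.Idx F} (hv : v ∈ (glSys hS).US (psiP D S)) (hne : v ≠ 1) :
    ∃ h ∈ D.group F, Commute h (xS D F S) ∧ h * v * h⁻¹ ∈ (glSys hS).US (psiP D S) ∧
      ∃ a ∈ Sim, h * v * h⁻¹ ∉ (glSys hS).US (psiP D S \ {a}) := by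
  classical
  set G := glSys hS
  set T := psiP D S
  have hT := hG.psi_closed S
  obtain ⟨M, hM⟩ := UClosed.exists_bound (len := len) (htHom D) D.nroots
  have htop : v ∉ G.US (lvl D len (htHom D) T ((M : ℤ) + 1)) := by
    intro h
    have hbot : G.US (lvl D len (htHom D) T ((M : ℤ) + 1)) = ⊥ := by
      rw [Sys.US, Subgroup.closure_eq_bot_iff]
      rintro _ ⟨r, hr, t, rfl⟩
      have h1 := hM r (psiP_lt hr.1)
      have h2 := hr.2
      omega
    rw [hbot, Subgroup.mem_bot] at h
    exact hne h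
  suffices H : ∀ n : ℕ, ∀ v ∈ G.US T, v ∉ G.US (lvl D len (htHom D) T ((n : ℤ) + 1)) →
      ∃ h ∈ D.group F, Commute h (xS D F S) ∧ h * v * h⁻¹ ∈ G.US T ∧
        ∃ a ∈ Sim, h * v * h⁻¹ ∉ G.US (T \ {a}) from H M v hv htop
  intro n
  induction n with
  | zero =>
    intro v hv h
    refine absurd (G.US_mono (fun r hr => ?_) hv) h
    exact ⟨hr, by have := hT.pos r hr; push_cast; omega⟩
  | succ n ih =>
    intro v hv h
    push_cast at h
    by_cases hn : v ∈ G.US (lvl D len (htHom D) T ((n : ℤ) + 1))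
    swap
    · exact ih v hv hn
    obtain ⟨L, hL⟩ := hT.exists_enum
    obtain ⟨t, rfl⟩ := G.exists_coef hG.root hT hL hv
    have hsupp := G.coef_supp hG.root hT hL (hT.lvl_closed hG.root _) (fun r hr => hr.1) hn
    obtain ⟨r, hr, htr, hrk⟩ : ∃ r ∈ T, t r ≠ 0 ∧ htHom D (vec D len r) = (n : ℤ) + 1 := by
      by_contra hcon
      push Not at hcon
      refine h (G.P_mem (fun r hr => hT.lt r ((hL.2 r).1 hr)) fun r hr h0 => ?_)
      have h1 := hsupp r ((hL.2 r).1 hr) h0
      exact ⟨h1.1, by have := h1.2; have := hcon r ((hL.2 r).1 hr) h0; omega⟩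
    by_cases hrs : r ∈ Sim
    · refine ⟨1, one_mem _, Commute.one_left _, by simpa using hv, r, hrs, fun hh => ?_⟩
      have hcl : UClosed D len (htHom D) (T \ {r}) :=
        hT.subset_closed Set.diff_subset (hG.psiA_closed (hSim.simple r hrs)).closed
      exact (G.coef_supp hG.root hT hL hcl Set.diff_subset (by simpa using hh) r hr htr).2 rfl
    obtain ⟨b, hb, hbr⟩ := hSim.descent r hr hrs
    have hbs := hSim.simple b hb
    by_cases htb : t b = 0
    swap
    · refine ⟨1, one_mem _, Commute.one_left _, by simpa using hv, b, hb, fun hh => ?_⟩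
      have hcl : UClosed D len (htHom D) (T \ {b}) :=
        hT.subset_closed Set.diff_subset (hG.psiA_closed hbs).closed
      exact (G.coef_supp hG.root hT hL hcl Set.diff_subset (by simpa using hh) b hbs.1 htb).2 rfl
    have hbl := psiP_lt hbs.1
    obtain ⟨g, hg, σ, hσ'⟩ := exists_refl (F := F) hS hG hbl
    have hσ : ∀ s < D.nroots, σ s < D.nroots ∧
        vec D len (σ s) = (1 : ℤ) • vec D len s + (-pr D b s) • vec D len b :=
      fun s hs => ⟨(hσ' s hs).1, (hσ' s hs).2.1⟩
    have hfix : Commute g (xS D F S) := by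
      refine commute_of_fix hS hG hlt fun s hs => ?_
      rw [(hσ' s (hlt s hs)).2.2]
      congr 1
      refine hG.root.vec_inj _ (hσ s (hlt s hs)).1 _ (hlt s hs) ?_
      rw [(hσ s (hlt s hs)).2, hbs.1.2 s hs]
      simp
    -- the permuted list
    set f : ℕ → ℕ := fun s => if s = b then b else σ s with hfdef
    have hfT : ∀ s ∈ T, f s ∈ T ∧ f (f s) = s := by
      intro s hs
      by_cases e : s = b
      · simp [hfdef, e]
        exact hbs.1
      · obtain ⟨h1, h2, -⟩ := hG.refl_mem hbs hσ hs e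
        simp only [hfdef, if_neg e, if_neg h2]
        exact ⟨h1, (hG.sigma_invol hbl hσ (psiP_lt hs)).1⟩
    have hLf : Enum T (L.map f) := by
      refine ⟨hL.1.map_on fun x hx y hy e => ?_, fun s => ?_⟩
      · rw [← (hfT x ((hL.2 x).1 hx)).2, e, (hfT y ((hL.2 y).1 hy)).2]
      · simp only [List.mem_map]
        constructor
        · rintro ⟨x, hx, rfl⟩
          exact (hfT x ((hL.2 x).1 hx)).1
        · intro hs
          exact ⟨f s, (hL.2 _).2 (hfT s hs).1, (hfT s hs).2⟩
    have himg : g * G.P L t * g⁻¹ = G.P (L.map f) (fun s => t (f s)) := by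
      have hmap : MulAut.conj g (G.P L t) = G.P (L.map f) (fun s => t (f s)) := by
        rw [Sys.P, Sys.P, map_list_prod, List.map_map, List.map_map]
        refine congrArg List.prod (List.map_congr_left fun s hs => ?_)
        have hsT := (hL.2 s).1 hs
        simp only [Function.comp_apply, MulAut.conj_apply, (hfT s hsT).2]
        show g * X D s (t s) * g⁻¹ = X D (f s) (t s)
        by_cases e : s = b
        · subst e
          have hx0 : X D s (0 : F) = 1 := G.x_zero hbl
          simp [hfdef, htb, hx0]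
        · rw [hfdef]
          simp only [if_neg e]
          exact (hσ' s (psiP_lt hsT)).2.2 _
      exact hmap
    have hv1 : g * G.P L t * g⁻¹ ∈ G.US T := himg ▸ G.P_mem' hT hLf _
    have hne1 : g * G.P L t * g⁻¹ ∉ G.US (lvl D len (htHom D) T ((n : ℤ) + 1)) := by
      rw [himg]
      intro hh
      have hrb : r ≠ b := fun e => htr (e ▸ htb)
      have h1 := G.coef_supp hG.root hT hLf (hT.lvl_closed hG.root _) (fun r hr => hr.1) hh (f r) (hfT r hr).1
        (by simpa [(hfT r hr).2] using htr)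
      have h2 : htHom D (vec D len (f r)) = htHom D (vec D len r) - htHom D (vec D len b) := by
        simp only [hfdef, if_neg hrb]
        rw [(hσ r (psiP_lt hr)).2, hbr]
        simp [sub_eq_add_neg]
      have := h1.2
      have := (hG.psi_closed S).pos b hbs.1
      omega
    obtain ⟨h', hh', hc, hm, a, ha, hna⟩ := ih _ hv1 hne1
    have e : h' * g * G.P L t * (h' * g)⁻¹ = h' * (g * G.P L t * g⁻¹) * h'⁻¹ := by group
    exact ⟨h' * g, mul_mem hh' hg, hc.mul_left hfix, by rw [e]; exact hm, a, ha, by rw [e]; exact hna⟩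

variable [Fintype F]

include hG in
/-- The descent step. -/
theorem goal_of_children {R : List (List ℕ)} (hlt : ∀ s ∈ S, s < D.nroots) (hSim : Simples (D := D) S Sim)
    (hbase : Reach D F R (xS D F S)) (hchild : ∀ a ∈ Sim, GoalAt hS R (S ++ [a])) :
    GoalAt hS R S := by
  classical
  intro v hv hsq
  by_cases h1 : v = 1
  · rwa [h1, mul_one]
  set G := glSys hS
  obtain ⟨h, hh, hc, hm, a, ha, hna⟩ := exists_simple_component hS hG hlt hSim hv h1
  have has := hSim.simple a ha
  have hal := psiP_lt has.1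
  have hT := hG.psi_closed S
  obtain ⟨L₀, hL₀⟩ := hT.exists_enum
  have hL : Enum (psiP D S) (a :: L₀.erase a) := by
    refine ⟨List.nodup_cons.2 ⟨hL₀.1.not_mem_erase, hL₀.1.erase a⟩, fun r => ?_⟩
    rw [List.mem_cons, hL₀.1.mem_erase_iff, hL₀.2]
    by_cases e : r = a
    · simp [e, has.1]
    · simp [e]
  obtain ⟨t, ht⟩ := G.exists_coef hG.root hT hL hm
  rw [Sys.P_cons] at ht
  have hrest : G.P (L₀.erase a) t ∈ G.US (psiP D S \ {a}) :=
    G.P_mem (fun r hr => psiP_lt ((hL₀.2 r).1 (List.mem_of_mem_erase hr))) fun r hr _ =>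
      ⟨(hL₀.2 r).1 (List.mem_of_mem_erase hr), ((hL₀.1.mem_erase_iff).1 hr).1⟩
  have hta : t a ≠ 0 := fun e => hna (by rw [ht, e, G.x_zero hal, one_mul]; exact hrest)
  obtain ⟨d, hd⟩ := FiniteField.isSquare_of_char_two (ringChar.eq F 2) (t a)⁻¹
  have hd0 : d ≠ 0 := fun e => inv_ne_zero hta (by rw [hd, e, mul_zero])
  obtain ⟨τ, hτ, hτ'⟩ := exists_scale hS hG hal hd0
  have hτc : Commute τ (xS D F S) := commute_of_fix hS hG hlt fun s hs => by
    rw [hτ' s (hlt s hs), hG.pr_symm hal (hlt s hs), show pr D s a = 0 from ?_, zpow_zero, one_mul]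
    rw [hG.pr_symm (hlt s hs) hal]
    exact has.1.2 s hs
  set w := τ * G.P (L₀.erase a) t * τ⁻¹ with hwdef
  have hw : w ∈ G.US (psiP D S \ {a}) := by
    refine Subgroup.closure_induction (p := fun g _ => τ * g * τ⁻¹ ∈ G.US (psiP D S \ {a}))
      ?_ ?_ ?_ ?_ hrest
    · rintro _ ⟨r, hr, u, rfl⟩
      show τ * X D r u * τ⁻¹ ∈ _
      rw [hτ' r (psiP_lt hr.1)]
      exact G.x_mem_US hr _
    · simp [one_mem]
    · intro x y _ _ hx hy
      simpa [mul_assoc] using mul_mem hx hy
    · intro x _ hx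
      simpa [mul_assoc] using inv_mem hx
  have hv1 : τ * h * v * (τ * h)⁻¹ = X D a (1 : F) * w := by
    have e1 : τ * X D a (t a) * τ⁻¹ = X D a (1 : F) := by
      rw [hτ' a hal, hG.pr_self hal]
      congr 1
      rw [zpow_two, ← hd, inv_mul_cancel₀ hta]
    rw [show τ * h * v * (τ * h)⁻¹ = τ * (h * v * h⁻¹) * τ⁻¹ by group, ht, hwdef, ← e1]
    show τ * (X D a (t a) * G.P (L₀.erase a) t) * τ⁻¹ = _
    group
  have hsq1 : (X D a (1 : F) * w) * (X D a 1 * w) = 1 := by
    rw [← hv1]
    calc _ = τ * h * (v * v) * (τ * h)⁻¹ := by group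
      _ = 1 := by rw [hsq, mul_one, mul_inv_cancel]
  obtain ⟨y, hy, w', hw', hw'sq, e⟩ := layers hS hG has hw hsq1
  have hyG : y ∈ D.group F := US_le_group hS (fun r hr => psiP_lt hr) hy
  have hk : Commute (y * (τ * h)) (xS D F S) :=
    (commute_xS hS hG hlt hy).mul_left (hτc.mul_left hc)
  refine Reach.of_conj (mul_mem hyG (mul_mem hτ hh)) ?_ (hchild a ha w' hw' hw'sq)
  rw [xS_append, mul_assoc (xS D F S), ← e, ← hv1]
  calc y * (τ * h) * (xS D F S * v) * (y * (τ * h))⁻¹
      = (y * (τ * h)) * xS D F S * (v * (y * (τ * h))⁻¹) := by group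
    _ = _ := by rw [hk.eq]; group

end Cfsg.Agent.EInvol
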