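import Cfsg.Agent.EInvol.Psi

/-!
# An involution with a simple component is conjugate into the centralizer of that root

If `v = x_a(1) w` is an involution, `a` simple in the subsystem, then the components of `w` along the roots not
orthogonal to `a` are removed level by level by conjugation.
-/

set_option autoImplicit false

namespace Cfsg.Agent.EInvol

open Cfsg.Lie Cfsg.Agent.ChevGrp
open scoped MatrixGroups

variable {D : ChevalleyDatum} {len : ℕ → ℕ} {F : Type*} [Field F]

variable (D) in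
/-- The roots orthogonal to `a`, or of level at least `k`. -/
def lowSet (len : ℕ → ℕ) (S : List ℕ) (a : ℕ) (k : ℤ) : Set ℕ :=
  {r | r ∈ psiP D S \ {a} ∧ (pr D r a = 0 ∨ k ≤ psiA D a (vec D len r))}

open scoped Classical in
/-- The image of a level vector under conjugation by `x_a(1)`. -/
noncomputable def img (D : ChevalleyDatum) (a : ℕ) (σ : ℕ → ℕ) (T : Set ℕ) (s : ℕ → F) : ℕ → F :=
  fun c => s c + if c ∈ T ∧ pr D c a = 1 then s (σ c) else 0

theorem img_add (a : ℕ) (σ : ℕ → ℕ) (T : Set ℕ) (s u : ℕ → F) :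
    img D a σ T (s + u) = img D a σ T s + img D a σ T u := by
  funext c
  simp only [img, Pi.add_apply]
  split_ifs <;> ring

variable [CharP F 2] (hS : Rules D F) (hG : Good D len)

namespace Good

include hG

theorem lowSet_closed {S : List ℕ} {a : ℕ} (ha : SimpleIn D S a) (k : ℤ) :
    UClosed D len (psiA D a) (lowSet D len S a k) := by
  have hT := hG.psiA_closed ha
  refine hT.subset_closed (fun r h => h.1) fun r hr s hs hne c hc => ⟨hT.closed r hr.1 s hs.1 hne c hc, ?_⟩
  obtain ⟨hlt, hi, hj, hv⟩ := hG.root.commTerms_vec r (hT.lt r hr.1) s (hT.lt s hs.1) hne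
    (hT.ne_neg hG.root hr.1 hs.1) c hc
  have h1 := hT.pos r hr.1
  have h2 := hT.pos s hs.1
  have hi' : (1 : ℤ) ≤ (c.2.2.1 : ℤ) := by exact_mod_cast hi
  have hj' : (1 : ℤ) ≤ (c.2.2.2 : ℤ) := by exact_mod_cast hj
  rcases hr.2 with e | e
  · rcases hs.2 with e' | e'
    · left
      rw [hG.pr_lin (hT.lt r hr.1) (hT.lt s hs.1) hlt hv, e, e']
      ring
    · right
      rw [hv, map_add, map_zsmul, map_zsmul, smul_eq_mul, smul_eq_mul]
      nlinarith
  · right
    rw [hv, map_add, map_zsmul, map_zsmul, smul_eq_mul, smul_eq_mul]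
    nlinarith

theorem sigma_invol {a : ℕ} (ha : a < D.nroots) {σ : ℕ → ℕ}
    (hσ : ∀ s < D.nroots, σ s < D.nroots ∧
      vec D len (σ s) = (1 : ℤ) • vec D len s + (-pr D a s) • vec D len a)
    {r : ℕ} (hr : r < D.nroots) : σ (σ r) = r ∧ pr D (σ r) a = -pr D r a := by
  obtain ⟨h1, hv⟩ := hσ r hr
  obtain ⟨h2, hv'⟩ := hσ _ h1
  have e : pr D (σ r) a = -pr D r a := by
    rw [hG.pr_lin hr ha h1 hv, hG.pr_self ha, hG.pr_symm ha hr]
    ring
  refine ⟨hG.root.vec_inj _ h2 _ hr ?_, e⟩
  rw [hv', hv, hG.pr_symm ha h1, e, hG.pr_symm ha hr]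
  module

end Good

section Step

variable {S : List ℕ} {a : ℕ} (ha : SimpleIn D S a)

include hG ha in
theorem img_single {σ : ℕ → ℕ}
    (hσ : ∀ s < D.nroots, σ s < D.nroots ∧
      vec D len (σ s) = (1 : ℤ) • vec D len s + (-pr D a s) • vec D len a)
    {r : ℕ} (hr : r ∈ psiP D S \ {a}) (v : F) :
    img D a σ (psiP D S \ {a}) (Pi.single r v) =
      if pr D r a = -1 then Pi.single r v + Pi.single (σ r) v else Pi.single r v := by
  classical
  have hal := psiP_lt ha.1
  funext c
  simp only [img]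
  by_cases hc : c ∈ psiP D S \ {a} ∧ pr D c a = 1
  · rw [if_pos hc]
    obtain ⟨e1, e2⟩ := hG.sigma_invol hal hσ (psiP_lt hc.1.1)
    by_cases h : σ c = r
    · have hr1 : pr D r a = -1 := by rw [← h, e2, hc.2]
      rw [if_pos hr1, Pi.add_apply, ← h, e1, Pi.single_eq_same, Pi.single_eq_same]
    · rw [Pi.single_eq_of_ne (M := fun _ => F) h, add_zero]
      split_ifs
      · have hne : c ≠ σ r := fun e => h (by rw [e, (hG.sigma_invol hal hσ (psiP_lt hr.1)).1])
        rw [Pi.add_apply, Pi.single_eq_of_ne (M := fun _ => F) hne, add_zero]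
      · rfl
  · rw [if_neg hc, add_zero]
    split_ifs with h
    · have hne : c ≠ σ r := fun e => hc ⟨by
        obtain ⟨h1, h2, -⟩ := hG.refl_mem ha hσ hr.1 hr.2
        exact e ▸ ⟨h1, h2⟩, by rw [e, (hG.sigma_invol hal hσ (psiP_lt hr.1)).2, h, neg_neg]⟩
      rw [Pi.add_apply, Pi.single_eq_of_ne (M := fun _ => F) hne, add_zero]
    · rfl

include hS hG ha in
/-- Conjugation by `x_a(1)` on one level. -/
theorem conj_level {L : List ℕ} (hL : Enum (psiP D S \ {a}) L) {k : ℤ} {σ : ℕ → ℕ}
    (hσ : ∀ s < D.nroots, σ s < D.nroots ∧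
      vec D len (σ s) = (1 : ℤ) • vec D len s + (-pr D a s) • vec D len a)
    (s : ℕ → F) (hs : ∀ r ∈ L, s r ≠ 0 → psiA D a (vec D len r) = k) :
    (glSys hS).Cg len (psiA D a) (psiP D S \ {a}) (k + 1)
      (X D a (1 : F) * (glSys hS).P L s * X D a 1)
      ((glSys hS).P L (img D a σ (psiP D S \ {a}) s)) := by
  classical
  set G := glSys hS with hGdef
  set T := psiP D S \ {a} with hTdef
  have hT := hG.psiA_closed ha
  have hLT : ∀ r ∈ L, r ∈ T := fun r h => (hL.2 r).1 h
  have hlt : ∀ r ∈ L, r < D.nroots := fun r h => hT.lt r (hLT r h)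
  have hal := psiP_lt ha.1
  -- one generator
  have hgen : ∀ r ∈ L, ∀ v : F, (v ≠ 0 → psiA D a (vec D len r) = k) →
      G.Cg len (psiA D a) T (k + 1) (X D a (1 : F) * X D r v * X D a 1)
        (G.P L (img D a σ T (Pi.single r v))) ∧
      (∀ c ∈ L, img D a σ T (Pi.single r v) c ≠ 0 → psiA D a (vec D len c) = k) := by
    intro r hr v hv
    obtain ⟨hm, hma, hmpsi⟩ := hG.refl_mem ha hσ (hLT r hr).1 (hLT r hr).2
    rw [img_single hG ha hσ (hLT r hr)]
    rcases hG.pr_cases_simple ha (hLT r hr).1 (hLT r hr).2 with e | e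
    · rw [if_pos e]
      obtain ⟨c, hc, hvc, hrel⟩ := exists_sum hS hG hal (hlt r hr)
        (by rw [hG.pr_symm hal (hlt r hr), e])
      have hcσ : c = σ r := hG.root.vec_inj c hc _ (hσ r (hlt r hr)).1 (by
        rw [(hσ r (hlt r hr)).2, hvc, hG.pr_symm hal (hlt r hr), e]
        module)
      subst hcσ
      have e1 : X D a (1 : F) * X D r v * X D a 1 = X D r v * X D (σ r) v := by
        rw [mul_assoc, hrel 1 v, ← mul_assoc, ← mul_assoc, X_self hS hal, one_mul, one_mul]
      refine ⟨?_, fun c _ h => ?_⟩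
      · rw [e1]
        have h1 := G.P_single hlt hL.1 hr v
        have h2 := G.P_single hlt hL.1 ((hL.2 _).2 ⟨hm, hma⟩) v
        have h3 := G.P_add hG.root hT k hLT (Pi.single r v) (Pi.single (σ r) v) fun c _ h => by
          have : c = σ r := by
            by_contra hne
            exact h (Pi.single_eq_of_ne (M := fun _ => F) hne v)
          rw [this, hmpsi]
          refine hv fun h0 => h ?_
          simp [h0]
        rw [h1, h2] at h3
        exact h3
      · by_cases h0 : v = 0
        · simp [h0] at h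
        by_cases hcr : c = r
        · rw [hcr, hv h0]
        by_cases hcs : c = σ r
        · rw [hcs, hmpsi, hv h0]
        · simp [Pi.single_eq_of_ne (M := fun _ => F) hcr, Pi.single_eq_of_ne (M := fun _ => F) hcs] at h
    · have hne : ¬ pr D r a = -1 := by omega
      rw [if_neg hne]
      refine ⟨?_, fun c _ h => ?_⟩
      · rw [G.P_single hlt hL.1 hr v, mul_assoc, (X_commute hS hG (hlt r hr) hal (by omega) v 1).eq,
          ← mul_assoc, X_self hS hal, one_mul]
        exact Sys.Cg.refl G _ _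
      · by_cases hcr : c = r
        · rw [hcr]
          refine hv fun h0 => h ?_
          simp [h0]
        · exact absurd (Pi.single_eq_of_ne (M := fun _ => F) hcr v) h
  -- all partial products
  have key : ∀ M : List ℕ, M ⊆ L → M.Nodup →
      G.Cg len (psiA D a) T (k + 1) (X D a (1 : F) * G.P M s * X D a 1)
        (G.P L (img D a σ T fun r => if r ∈ M then s r else 0)) ∧
      (∀ c ∈ L, img D a σ T (fun r => if r ∈ M then s r else 0) c ≠ 0 →
        psiA D a (vec D len c) = k) ∧
      X D a (1 : F) * G.P M s * X D a 1 ∈ G.US T := by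
    intro M
    induction M with
    | nil =>
      intro _ _
      have e : img D a σ T (fun r => if r ∈ ([] : List ℕ) then s r else 0) = fun _ : ℕ => (0 : F) := by
        funext c
        simp [img]
      rw [e, G.P_zero hlt fun _ _ => rfl, Sys.P_nil, mul_one, X_self hS hal]
      exact ⟨Sys.Cg.refl G _ _, fun _ _ h => absurd rfl h, one_mem _⟩
    | cons r M ih =>
      intro hsub hnd
      obtain ⟨hnr, hnd'⟩ := List.nodup_cons.1 hnd
      have hr : r ∈ L := hsub List.mem_cons_self
      obtain ⟨ih1, ih2, ih3⟩ := ih (fun x hx => hsub (List.mem_cons_of_mem _ hx)) hnd'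
      obtain ⟨g1, g2⟩ := hgen r hr (s r) (hs r hr)
      have e : (fun c => if c ∈ r :: M then s c else 0) =
          Pi.single r (s r) + fun c => if c ∈ M then s c else 0 := by
        funext c
        by_cases hc : c = r
        · subst hc
          simp [hnr]
        · simp [hc, Pi.single_eq_of_ne (M := fun _ => F) hc]
      rw [e, img_add]
      have e1 : X D a (1 : F) * G.P (r :: M) s * X D a 1 =
          (X D a (1 : F) * X D r (s r) * X D a 1) * (X D a (1 : F) * G.P M s * X D a 1) := by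
        have hx : G.x r (s r) = X D r (s r) := rfl
        rw [Sys.P_cons, hx]
        simp only [mul_assoc]
        rw [← mul_assoc (X D a (1 : F)) (X D a 1), X_self hS hal, one_mul]
      have hgmem : X D a (1 : F) * X D r (s r) * X D a 1 ∈ G.US T := by
        have hr' := hLT r hr
        rcases hG.pr_cases_simple ha hr'.1 hr'.2 with e | e
        · obtain ⟨c, hc, hvc, hrel⟩ := exists_sum hS hG hal (hlt r hr)
            (by rw [hG.pr_symm hal (hlt r hr), e])
          obtain ⟨hm, hma, -⟩ := hG.refl_mem ha hσ hr'.1 hr'.2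
          have hcσ : c = σ r := hG.root.vec_inj c hc _ (hσ r (hlt r hr)).1 (by
            rw [(hσ r (hlt r hr)).2, hvc, hG.pr_symm hal (hlt r hr), e]
            module)
          rw [mul_assoc, hrel 1 (s r), ← mul_assoc, ← mul_assoc, X_self hS hal, one_mul, one_mul, hcσ]
          exact mul_mem (G.x_mem_US hr' _) (G.x_mem_US (show σ r ∈ T from ⟨hm, hma⟩) _)
        · rw [mul_assoc, (X_commute hS hG (hlt r hr) hal (by omega) (s r) 1).eq,
            ← mul_assoc, X_self hS hal, one_mul]
          exact G.x_mem_US hr' _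
      refine ⟨?_, fun c hc h => ?_, e1 ▸ mul_mem hgmem ih3⟩
      · rw [e1]
        refine (Sys.Cg.mul_left G _ ih1).trans ?_
        refine (Sys.Cg.mul_right G hG.root hT (G.P_mem hlt fun c hc _ => hLT c hc) g1).trans ?_
        exact G.P_add hG.root hT k hLT _ _ ih2
      · by_contra hne
        have h1 : img D a σ T (Pi.single r (s r)) c = 0 := by
          by_contra h'
          exact hne (g2 c hc h')
        have h2 : img D a σ T (fun r => if r ∈ M then s r else 0) c = 0 := by
          by_contra h'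
          exact hne (ih2 c hc h')
        exact h (by rw [Pi.add_apply, h1, h2, add_zero])
  have := (key L (fun _ h => h) hL.1).1
  rwa [G.P_congr (t := img D a σ T fun r => if r ∈ L then s r else 0) (t' := img D a σ T s)] at this
  intro c _
  simp only [img]
  by_cases hc : c ∈ T ∧ pr D c a = 1
  · have h1 : σ c ∈ L := (hL.2 _).2 (by
      obtain ⟨h1, h2, -⟩ := hG.refl_mem ha hσ hc.1.1 hc.1.2
      exact ⟨h1, h2⟩)
    simp [hc, (hL.2 _).2 hc.1, h1]
  · rw [if_neg hc, if_neg hc]
    by_cases h : c ∈ L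
    · simp [h]
    · exact absurd ‹c ∈ L› h

omit [CharP F 2] in
include hG ha in
/-- An element of a level commutes with everything modulo the next level. -/
theorem swap_level {k : ℤ} {g h : GL D.Idx F}
    (hg : g ∈ (glSys hS).US (lvl D len (psiA D a) (psiP D S \ {a}) k))
    (hh : h ∈ (glSys hS).US (psiP D S \ {a})) :
    (glSys hS).Cg len (psiA D a) (psiP D S \ {a}) (k + 1) (g * h) (h * g) := by
  set G := glSys hS
  have hT := hG.psiA_closed ha
  have hle : G.US (lvl D len (psiA D a) (psiP D S \ {a}) k) ≤ G.US (psiP D S \ {a}) :=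
    G.US_mono fun _ h => h.1
  suffices H : ∀ h' ∈ G.US (psiP D S \ {a}),
      G.Cg len (psiA D a) (psiP D S \ {a}) (k + 1) (g * h') (h' * g) from H h hh
  clear hh h
  refine Subgroup.closure_induction (p := fun g _ => ∀ h' ∈ G.US (psiP D S \ {a}),
      G.Cg len (psiA D a) (psiP D S \ {a}) (k + 1) (g * h') (h' * g)) ?_ ?_ ?_ ?_ hg
  · rintro _ ⟨r, hr, t, rfl⟩ h hh
    have := G.swap_lvl hG.root hT hr.1 t hh
    refine G.US_mono ?_ this
    exact fun c hc => ⟨hc.1, by have := hc.2; have := hr.2; omega⟩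
  · intro h _
    simpa using Sys.Cg.refl G _ _
  · intro x y hx hy ihx ihy h hh
    have e1 := Sys.Cg.mul_left G x (ihy h hh)
    have e2 := Sys.Cg.mul_right G hG.root hT (hle hy) (ihx h hh)
    simpa [mul_assoc] using e1.trans (by simpa [mul_assoc] using e2)
  · intro x hx ihx h hh
    have e1 := Sys.Cg.mul_left G x⁻¹ (Sys.Cg.mul_right G hG.root hT (inv_mem (hle hx)) (ihx h hh))
    simp only [mul_assoc, mul_inv_cancel, mul_one, inv_mul_cancel_left] at e1
    exact e1.symm

include hS hG ha in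
/-- One level is removed. -/
theorem layer_step (k : ℤ) {w : GL D.Idx F} (hw : w ∈ (glSys hS).US (lowSet D len S a k))
    (hsq : (X D a (1 : F) * w) * (X D a 1 * w) = 1) :
    ∃ y ∈ (glSys hS).US (psiP D S), ∃ w' ∈ (glSys hS).US (lowSet D len S a (k + 1)),
      y * (X D a (1 : F) * w) * y⁻¹ = X D a 1 * w' := by
  classical
  set G := glSys hS
  set T := psiP D S \ {a} with hTdef
  have hT := hG.psiA_closed ha
  have hal := psiP_lt ha.1
  obtain ⟨_, -, σ, hσ'⟩ := exists_refl (F := F) hS hG hal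
  have hσ : ∀ s < D.nroots, σ s < D.nroots ∧
      vec D len (σ s) = (1 : ℤ) • vec D len s + (-pr D a s) • vec D len a :=
    fun s hs => ⟨(hσ' s hs).1, (hσ' s hs).2.1⟩
  obtain ⟨L₀, hL₀⟩ := hT.exists_enum
  set Lo := L₀.filter (fun r => decide (pr D r a = 0))
  set Ln := L₀.filter (fun r => !decide (pr D r a = 0))
  have hL : Enum T (Lo ++ Ln) := by
    have hp : (Lo ++ Ln).Perm L₀ := List.filter_append_perm _ _
    exact ⟨hp.nodup_iff.2 hL₀.1, fun r => by rw [hp.mem_iff]; exact hL₀.2 r⟩
  set L := Lo ++ Ln with hLdef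
  have hLT : ∀ r ∈ L, r ∈ T := fun r h => (hL.2 r).1 h
  have hlt : ∀ r ∈ L, r < D.nroots := fun r h => hT.lt r (hLT r h)
  have hA := hG.lowSet_closed ha k
  have hAT : lowSet D len S a k ⊆ T := fun r h => h.1
  obtain ⟨t, rfl⟩ := G.exists_coef hG.root hT hL (G.US_mono hAT hw)
  have hsupp := G.coef_supp hG.root hT hL hA hAT hw
  have hLo : ∀ r ∈ Lo, pr D r a = 0 := fun r h => by
    simpa [Lo] using (List.mem_filter.1 h).2
  have hLn : ∀ r ∈ Ln, pr D r a ≠ 0 := fun r h => by
    simpa [Ln] using (List.mem_filter.1 h).2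
  set o := G.P Lo t with hodef
  set z := G.P Ln t with hzdef
  have hoT : o ∈ G.US T :=
    G.P_mem (fun r h => hlt r (List.mem_append_left _ h)) fun r h _ => hLT r (List.mem_append_left _ h)
  have hzV : z ∈ G.US (lvl D len (psiA D a) T k) :=
    G.P_mem (fun r h => hlt r (List.mem_append_right _ h)) fun r h h0 =>
      ⟨hLT r (List.mem_append_right _ h),
        (hsupp r (hLT r (List.mem_append_right _ h)) h0).2.resolve_left (hLn r h)⟩
  have hwe : G.P L t = o * z := G.P_append Lo Ln t
  -- the level vector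
  set s : ℕ → F := fun r => if pr D r a ≠ 0 ∧ psiA D a (vec D len r) = k then t r else 0 with hsdef
  have hsk : ∀ r ∈ L, s r ≠ 0 → psiA D a (vec D len r) = k := fun r _ h => by
    by_contra hne
    simp [hsdef, hne] at h
  set t' : ℕ → F := fun r => if pr D r a = 0 then 0 else t r with ht'def
  have hz' : z = G.P L t' := by
    rw [hLdef, G.P_append, G.P_zero (fun r h => hlt r (List.mem_append_left _ h))
      (fun r h => by simp [ht'def, hLo r h]), one_mul]
    exact G.P_congr fun r h => by simp [ht'def, hLn r h]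
  have hzs : G.Cg len (psiA D a) T (k + 1) z (G.P L s) := by
    rw [hz']
    refine (G.P_below hG.root hT (k + 1) hLT t').trans ?_
    rw [G.P_congr (t := Sys.below len (psiA D a) (k + 1) t') (t' := s)]
    · exact Sys.Cg.refl G _ _
    intro r hr
    simp only [Sys.below, ht'def, hsdef]
    by_cases hp : pr D r a = 0
    · simp [hp]
    by_cases h0 : t r = 0
    · simp [h0]
    have hk := (hsupp r (hLT r hr) h0).2.resolve_left hp
    split_ifs with h1 h2 h3 <;> first | rfl | (exfalso; simp_all; try omega)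
  -- membership
  have hPT : ∀ u : ℕ → F, G.P L u ∈ G.US T := fun u => G.P_mem hlt fun r h _ => hLT r h
  have hPV : ∀ u : ℕ → F, (∀ r ∈ L, u r ≠ 0 → psiA D a (vec D len r) = k) →
      G.P L u ∈ G.US (lvl D len (psiA D a) T k) := fun u hu =>
    G.P_mem hlt fun r h h0 => ⟨hLT r h, (hu r h h0).ge⟩
  have hzT : z ∈ G.US T := G.US_mono (fun _ h => h.1) hzV
  set Xa := X D a (1 : F) with hXa
  have hXX : Xa * Xa = 1 := X_self hS hal 1
  have hconjT : ∀ g ∈ G.US T, Xa * g * Xa ∈ G.US T := by
    intro g hg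
    refine Subgroup.closure_induction ?_ ?_ ?_ ?_ hg
    · rintro _ ⟨r, hr, u, rfl⟩
      rcases hG.pr_cases_simple ha hr.1 hr.2 with e | e
      · obtain ⟨c, hc, hvc, hrel⟩ := exists_sum (F := F) hS hG hal (hT.lt r hr)
          (by rw [hG.pr_symm hal (hT.lt r hr), e])
        obtain ⟨hm, hma, -⟩ := hG.refl_mem ha hσ hr.1 hr.2
        have hcσ : c = σ r := hG.root.vec_inj c hc _ (hσ r (hT.lt r hr)).1 (by
          rw [(hσ r (hT.lt r hr)).2, hvc, hG.pr_symm hal (hT.lt r hr), e]
          module)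
        show Xa * X D r u * Xa ∈ _
        rw [mul_assoc, hXa, hrel 1 u, ← mul_assoc, ← mul_assoc, X_self hS hal, one_mul, one_mul, hcσ]
        exact mul_mem (G.x_mem_US hr _) (G.x_mem_US (show σ r ∈ T from ⟨hm, hma⟩) _)
      · show Xa * X D r u * Xa ∈ _
        rw [mul_assoc, hXa, (X_commute hS hG (hT.lt r hr) hal (by omega) u 1).eq,
          ← mul_assoc, X_self hS hal, one_mul]
        exact G.x_mem_US hr _
    · rw [mul_one, hXX]
      exact one_mem _
    · intro x y _ _ hx hy
      have e : Xa * (x * y) * Xa = (Xa * x * Xa) * (Xa * y * Xa) := by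
        simp only [mul_assoc]
        rw [← mul_assoc Xa Xa, hXX, one_mul]
      rw [e]
      exact mul_mem hx hy
    · intro x _ hx
      have e : Xa * x⁻¹ * Xa = (Xa * x * Xa)⁻¹ := by
        rw [mul_inv_rev, mul_inv_rev, inv_eq_of_mul_eq_one_right hXX, mul_assoc]
      rw [e]
      exact inv_mem hx
  have himgk : ∀ u : ℕ → F, (∀ r ∈ L, u r ≠ 0 → psiA D a (vec D len r) = k) →
      ∀ c ∈ L, img D a σ T u c ≠ 0 → psiA D a (vec D len c) = k := by
    intro u hu c hc h
    by_contra hne
    have h1 : u c = 0 := by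
      by_contra h'
      exact hne (hu c hc h')
    simp only [img, h1, zero_add] at h
    split_ifs at h with hcc
    · obtain ⟨hm, hma, hmp⟩ := hG.refl_mem ha hσ hcc.1.1 hcc.1.2
      exact hne (by rw [← hmp]; exact hu _ ((hL.2 _).2 ⟨hm, hma⟩) h)
    · exact h rfl
  have hz1 : G.Cg len (psiA D a) T (k + 1) (Xa * z * Xa) (G.P L (img D a σ T s)) := by
    refine Sys.Cg.trans ?_ (conj_level hS hG ha hL hσ s hsk)
    have hn : (z⁻¹ * G.P L s) ∈ G.US (lvl D len (psiA D a) T (k + 1)) := hzs
    show (Xa * z * Xa)⁻¹ * (Xa * G.P L s * Xa) ∈ _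
    have e : (Xa * z * Xa)⁻¹ * (Xa * G.P L s * Xa) = Xa⁻¹ * (z⁻¹ * G.P L s) * Xa := by group
    rw [e, inv_eq_of_mul_eq_one_right hXX]
    refine Subgroup.closure_induction ?_ ?_ ?_ ?_ hn
    · rintro _ ⟨r, hr, u, rfl⟩
      show Xa * X D r u * Xa ∈ _
      rcases hG.pr_cases_simple ha hr.1.1 hr.1.2 with e | e
      · obtain ⟨c, hc, hvc, hrel⟩ := exists_sum (F := F) hS hG hal (hT.lt r hr.1)
          (by rw [hG.pr_symm hal (hT.lt r hr.1), e])
        obtain ⟨hm, hma, hmp⟩ := hG.refl_mem ha hσ hr.1.1 hr.1.2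
        have hcσ : c = σ r := hG.root.vec_inj c hc _ (hσ r (hT.lt r hr.1)).1 (by
          rw [(hσ r (hT.lt r hr.1)).2, hvc, hG.pr_symm hal (hT.lt r hr.1), e]
          module)
        rw [mul_assoc, hXa, hrel 1 u, ← mul_assoc, ← mul_assoc, X_self hS hal, one_mul, one_mul, hcσ]
        exact mul_mem (G.x_mem_US hr _)
          (G.x_mem_US (T := lvl D len (psiA D a) T (k + 1)) ⟨⟨hm, hma⟩, hmp ▸ hr.2⟩ _)
      · rw [mul_assoc, hXa, (X_commute hS hG (hT.lt r hr.1) hal (by omega) u 1).eq,
          ← mul_assoc, X_self hS hal, one_mul]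
        exact G.x_mem_US hr _
    · rw [mul_one, hXX]
      exact one_mem _
    · intro x y _ _ hx hy
      have e : Xa * (x * y) * Xa = (Xa * x * Xa) * (Xa * y * Xa) := by
        simp only [mul_assoc]
        rw [← mul_assoc Xa Xa, hXX, one_mul]
      rw [e]
      exact mul_mem hx hy
    · intro x _ hx
      have e : Xa * x⁻¹ * Xa = (Xa * x * Xa)⁻¹ := by
        rw [mul_inv_rev, mul_inv_rev, inv_eq_of_mul_eq_one_right hXX, mul_assoc]
      rw [e]
      exact inv_mem hx
  have hoc : Xa * o = o * Xa := by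
    refine (Commute.list_prod_right _ _ fun y hy => ?_).eq
    obtain ⟨r, hr, rfl⟩ := List.mem_map.1 hy
    have hr' := List.mem_append_left Ln hr
    exact X_commute hS hG hal (hlt r hr') (by rw [hG.pr_symm hal (hlt r hr'), hLo r hr]) _ _
  have hzc : Xa * z * Xa ∈ G.US (lvl D len (psiA D a) T k) := by
    have h1 : G.P L (img D a σ T s) ∈ G.US (lvl D len (psiA D a) T k) := hPV _ (himgk s hsk)
    have h2 : (Xa * z * Xa)⁻¹ * G.P L (img D a σ T s) ∈ G.US (lvl D len (psiA D a) T k) :=
      G.US_mono (fun r (hr : r ∈ lvl D len (psiA D a) T (k + 1)) =>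
        (⟨hr.1, by have := hr.2; omega⟩ : r ∈ lvl D len (psiA D a) T k)) hz1
    have := mul_mem h1 (inv_mem h2)
    simpa [mul_assoc] using this
  -- the square
  have h1 : G.Cg len (psiA D a) T (k + 1) 1 (o * o * G.P L (img D a σ T s + s)) := by
    have e : (1 : GL D.Idx F) = o * (Xa * z * Xa) * (o * z) := by
      rw [← hsq, hwe]
      calc Xa * (o * z) * (Xa * (o * z)) = (Xa * o) * z * Xa * (o * z) := by simp only [mul_assoc]
        _ = _ := by rw [hoc]; simp only [mul_assoc]
    have e1 : G.Cg len (psiA D a) T (k + 1) (o * (Xa * z * Xa) * (o * z)) (o * o * ((Xa * z * Xa) * z)) := by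
      have h := Sys.Cg.mul_left G o (Sys.Cg.mul_right G hG.root hT hzT (swap_level hS hG ha hzc hoT))
      simpa [mul_assoc] using h
    have e2 : G.Cg len (psiA D a) T (k + 1) ((Xa * z * Xa) * z) (G.P L (img D a σ T s + s)) :=
      (Sys.Cg.mul_right G hG.root hT hzT hz1).trans
        ((Sys.Cg.mul_left G _ hzs).trans (G.P_add hG.root hT k hLT _ s hsk))
    have := e1.trans (Sys.Cg.mul_left G (o * o) e2)
    rwa [← e] at this
  obtain ⟨u, hu⟩ := G.exists_coef hG.root hT hL (mul_mem hoT hoT)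
  have hu0 : ∀ r ∈ T, u r ≠ 0 → pr D r a = 0 := by
    have hoo : G.P L u ∈ G.US {r | r ∈ T ∧ pr D r a = 0} := by
      rw [← hu]
      have ho : o ∈ G.US {r | r ∈ T ∧ pr D r a = 0} :=
        G.P_mem (fun r h => hlt r (List.mem_append_left _ h)) fun r h _ =>
          ⟨hLT r (List.mem_append_left _ h), hLo r h⟩
      exact mul_mem ho ho
    have hO : UClosed D len (psiA D a) {r | r ∈ T ∧ pr D r a = 0} := by
      refine hT.subset_closed (fun r h => h.1) fun r hr c hc hne d hd => ⟨hT.closed r hr.1 c hc.1 hne d hd, ?_⟩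
      obtain ⟨hl, -, -, hv⟩ := hG.root.commTerms_vec r (hT.lt r hr.1) c (hT.lt c hc.1) hne
        (hT.ne_neg hG.root hr.1 hc.1) d hd
      rw [hG.pr_lin (hT.lt r hr.1) (hT.lt c hc.1) hl hv, hr.2, hc.2]
      ring
    exact fun r hr h => (G.coef_supp hG.root hT hL hO (fun r h => h.1) hoo r hr h).2
  have hlow : ∀ b ∈ T, pr D b a = -1 → s b = 0 := by
    intro b hb hb1
    have hq : ∀ r ∈ L, (img D a σ T s + s) r ≠ 0 → psiA D a (vec D len r) = k := by
      intro r hr h
      by_contra hne
      have e1 : img D a σ T s r = 0 := by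
        by_contra h'
        exact hne (himgk s hsk r hr h')
      have e2 : s r = 0 := by
        by_contra h'
        exact hne (hsk r hr h')
      exact h (by rw [Pi.add_apply, e1, e2, add_zero])
    have hcg := h1.trans (by rw [hu]; exact G.P_add hG.root hT k hLT u _ hq)
    have hmem : G.P L (u + (img D a σ T s + s)) ∈ G.US (lvl D len (psiA D a) T (k + 1)) := by
      simpa [Sys.Cg] using hcg
    by_contra h0
    have hbk := hsk b ((hL.2 b).2 hb) h0
    obtain ⟨hm, hma, hmp⟩ := hG.refl_mem ha hσ hb.1 hb.2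
    obtain ⟨hi, hsg⟩ := hG.sigma_invol hal hσ (hT.lt b hb)
    have h2 := G.coef_supp hG.root hT hL (hT.lvl_closed hG.root (k + 1)) (fun r h => h.1) hmem (σ b)
      ⟨hm, hma⟩
    have e3 : u (σ b) = 0 := by
      by_contra h'
      have := hu0 (σ b) ⟨hm, hma⟩ h'
      omega
    have e4 : img D a σ T s (σ b) + s (σ b) = s b := by
      rw [img, if_pos (show σ b ∈ T ∧ pr D (σ b) a = 1 from ⟨⟨hm, hma⟩, by omega⟩), hi, add_right_comm,
        CharTwo.add_self_eq_zero, zero_add]
    have := (h2 (by rw [Pi.add_apply, e3, zero_add, Pi.add_apply, e4]; exact h0)).2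
    omega
  -- the conjugating element
  set sy : ℕ → F := fun b => if b ∈ T ∧ pr D b a = -1 then s (σ b) else 0 with hsydef
  have hsyk : ∀ r ∈ L, sy r ≠ 0 → psiA D a (vec D len r) = k := by
    intro r hr h
    simp only [hsydef] at h
    split_ifs at h with hc
    · obtain ⟨hm, hma, hmp⟩ := hG.refl_mem ha hσ hc.1.1 hc.1.2
      rw [← hmp]
      exact hsk _ ((hL.2 _).2 ⟨hm, hma⟩) h
    · exact absurd rfl h
  set y := G.P L sy
  have hyV : y ∈ G.US (lvl D len (psiA D a) T k) := hPV _ hsyk
  have hyT : y ∈ G.US T := hPT sy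
  refine ⟨y, G.US_mono (fun r h => h.1) hyT, (Xa * y * Xa) * (o * z) * y⁻¹, ?_, ?_⟩
  swap
  · rw [hwe]
    simp only [mul_assoc]
    rw [← mul_assoc Xa Xa, hXX, one_mul]
  have hyk : ∀ r ∈ L, (sy + s) r ≠ 0 → psiA D a (vec D len r) = k := fun r hr h => by
    by_contra hne
    have e1 : sy r = 0 := by
      by_contra h'
      exact hne (hsyk r hr h')
    have e2 : s r = 0 := by
      by_contra h'
      exact hne (hsk r hr h')
    exact h (by rw [Pi.add_apply, e1, e2, add_zero])
  have heq : ∀ c ∈ L, img D a σ T sy c = (sy + s) c := by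
    intro c hc
    simp only [img, Pi.add_apply]
    rcases hG.pr_cases_simple ha (hLT c hc).1 (hLT c hc).2 with e | e | e
    · rw [if_neg (fun h => by omega), hlow c (hLT c hc) e]
    · rw [if_neg (fun h => by omega)]
      simp [hsdef, e]
    · rw [if_pos ⟨hLT c hc, e⟩]
      obtain ⟨hm, hma, -⟩ := hG.refl_mem ha hσ (hLT c hc).1 (hLT c hc).2
      obtain ⟨hi, hsg⟩ := hG.sigma_invol hal hσ (hlt c hc)
      congr 1
      simp only [hsydef]
      rw [if_pos (show σ c ∈ T ∧ pr D (σ c) a = -1 from ⟨⟨hm, hma⟩, by omega⟩), hi]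
  have hy1 : G.Cg len (psiA D a) T (k + 1) (Xa * y * Xa) (G.P L (sy + s)) := by
    have := conj_level hS hG ha hL hσ sy hsyk
    rwa [G.P_congr heq] at this
  have hyinv : G.Cg len (psiA D a) T (k + 1) y⁻¹ y := by
    have h := G.P_add hG.root hT k hLT sy sy hsyk
    rw [G.P_zero (t := sy + sy) hlt fun r _ => CharTwo.add_self_eq_zero _] at h
    have := Sys.Cg.mul_left G y⁻¹ h.symm
    simpa [y] using this
  have hA1 : G.US {r | r ∈ T ∧ pr D r a = 0} ≤ G.US (lowSet D len S a (k + 1)) :=
    G.US_mono fun r h => ⟨h.1, Or.inl h.2⟩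
  have hA2 : G.US (lvl D len (psiA D a) T (k + 1)) ≤ G.US (lowSet D len S a (k + 1)) :=
    G.US_mono fun r h => ⟨h.1, Or.inr h.2⟩
  have hsum : G.Cg len (psiA D a) T (k + 1) ((Xa * y * Xa) * z * y⁻¹) 1 := by
    have c1 := Sys.Cg.mul_right G hG.root hT (inv_mem hyT) (Sys.Cg.mul_right G hG.root hT hzT hy1)
    have c2 := Sys.Cg.mul_right G hG.root hT (inv_mem hyT) ((Sys.Cg.mul_left G (G.P L (sy + s)) hzs).trans
      (G.P_add hG.root hT k hLT (sy + s) s hsk))
    have c3 := (Sys.Cg.mul_left G (G.P L (sy + s + s)) hyinv).trans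
      (G.P_add hG.root hT k hLT (sy + s + s) sy hsyk)
    rw [G.P_zero (t := sy + s + s + sy) hlt fun r _ => by
      simp only [Pi.add_apply]
      linear_combination (s r + sy r) * CharTwo.two_eq_zero (R := F)] at c3
    exact c1.trans (c2.trans c3)
  have hXy : Xa * y * Xa ∈ G.US (lvl D len (psiA D a) T k) := by
    have h2 : (Xa * y * Xa)⁻¹ * G.P L (sy + s) ∈ G.US (lvl D len (psiA D a) T k) :=
      G.US_mono (fun r (hr : r ∈ lvl D len (psiA D a) T (k + 1)) =>
        (⟨hr.1, by have := hr.2; omega⟩ : r ∈ lvl D len (psiA D a) T k)) hy1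
    have := mul_mem (hPV _ hyk) (inv_mem h2)
    simpa [mul_assoc] using this
  have hfin : G.Cg len (psiA D a) T (k + 1) ((Xa * y * Xa) * (o * z) * y⁻¹) o := by
    have c1 := Sys.Cg.mul_right G hG.root hT (mul_mem hzT (inv_mem hyT)) (swap_level hS hG ha hXy hoT)
    have c2 : G.Cg len (psiA D a) T (k + 1) (o * ((Xa * y * Xa) * z * y⁻¹)) o := by
      simpa using Sys.Cg.mul_left G o hsum
    exact (by simpa [mul_assoc] using c1 : G.Cg len (psiA D a) T (k + 1) ((Xa * y * Xa) * (o * z) * y⁻¹)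
      (o * ((Xa * y * Xa) * z * y⁻¹))).trans c2
  have ho' : o ∈ G.US {r | r ∈ T ∧ pr D r a = 0} :=
    G.P_mem (fun r h => hlt r (List.mem_append_left _ h)) fun r h _ =>
      ⟨hLT r (List.mem_append_left _ h), hLo r h⟩
  have := mul_mem (hA1 ho') (inv_mem (hA2 hfin))
  simpa [mul_assoc] using this

include hS hG ha in
/-- The whole component is removed. -/
theorem layers {w : GL D.Idx F} (hw : w ∈ (glSys hS).US (psiP D S \ {a}))
    (hsq : (X D a (1 : F) * w) * (X D a 1 * w) = 1) :
    ∃ y ∈ (glSys hS).US (psiP D S), ∃ w' ∈ (glSys hS).US (psiP D (S ++ [a])),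
      w' * w' = 1 ∧ y * (X D a (1 : F) * w) * y⁻¹ = X D a 1 * w' := by
  set G := glSys hS
  have hT := hG.psiA_closed ha
  have key : ∀ n : ℕ, ∃ y ∈ G.US (psiP D S), ∃ w' ∈ G.US (lowSet D len S a ((n : ℤ) + 1)),
      y * (X D a (1 : F) * w) * y⁻¹ = X D a 1 * w' := by
    intro n
    induction n with
    | zero =>
      refine ⟨1, one_mem _, w, G.US_mono (fun r hr => ?_) hw, by simp⟩
      exact ⟨hr, Or.inr (by have := hT.pos r hr; push_cast; omega)⟩
    | succ n ih =>
      obtain ⟨y, hy, w', hw', e⟩ := ih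
      have hsq' : (X D a (1 : F) * w') * (X D a 1 * w') = 1 := by
        rw [← e]
        calc _ = y * ((X D a (1 : F) * w) * (X D a 1 * w)) * y⁻¹ := by group
          _ = 1 := by rw [hsq, mul_one, mul_inv_cancel]
      obtain ⟨y', hy', w'', hw'', e'⟩ := layer_step hS hG ha _ hw' hsq'
      refine ⟨y' * y, mul_mem hy' hy, w'', by push_cast; exact hw'', ?_⟩
      rw [← e', ← e]
      group
  obtain ⟨M, hM⟩ := UClosed.exists_bound (len := len) (psiA D a) D.nroots
  obtain ⟨y, hy, w', hw', e⟩ := key M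
  have hsub : lowSet D len S a ((M : ℤ) + 1) ⊆ psiP D (S ++ [a]) := fun r hr => by
    refine psiP_append.2 ⟨hr.1.1, ?_⟩
    rcases hr.2 with h | h
    · exact h
    · have := hM r hr.1.1.1.1
      omega
  have hw'' := G.US_mono hsub hw'
  refine ⟨y, hy, w', hw'', ?_, e⟩
  have hal := psiP_lt ha.1
  have hc : Commute w' (X D a (1 : F)) := by
    refine Subgroup.closure_induction ?_ (Commute.one_left _) (fun _ _ _ _ => Commute.mul_left)
      (fun _ _ => Commute.inv_left) hw''
    rintro _ ⟨r, hr, t, rfl⟩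
    exact X_commute hS hG hr.1.1 hal (by rw [(psiP_append.1 hr).2]) t 1
  have hsq' : (X D a (1 : F) * w') * (X D a 1 * w') = 1 := by
    rw [← e]
    calc _ = y * ((X D a (1 : F) * w) * (X D a 1 * w)) * y⁻¹ := by group
      _ = 1 := by rw [hsq, mul_one, mul_inv_cancel]
  calc w' * w' = (X D a (1 : F) * w') * (X D a 1 * w') := by
        rw [show (X D a (1 : F) * w') * (X D a 1 * w') = X D a 1 * (w' * X D a 1) * w' by
          simp only [mul_assoc], hc.eq, ← mul_assoc, X_self hS hal, one_mul]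
    _ = 1 := hsq'

end Step

end Cfsg.Agent.EInvol
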