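import Cfsg.Agent.EInvol.Rank
import Cfsg.Agent.Known.ChevFieldInvol

/-!
# The classes of involutions of a simply-laced group in characteristic two
-/

set_option autoImplicit false

namespace Cfsg.Agent.EInvol

open Cfsg.Lie Cfsg.Agent.ChevGrp
open scoped MatrixGroups

/-- The representatives are orthogonal and separated by the certificates. -/
def repB (D : ChevalleyDatum) (T : Tab) (R : List (List ℕ)) (Cs : List RankCert) : Bool :=
  (Cs.map fun C => C.mats.map Prod.fst) == R && decide (Cs.map RankCert.k).Nodup &&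
    (Cs.all fun C => decide (0 < C.k)) &&
    R.all fun l => l.all fun s => decide (s < D.nroots) && l.all fun r => r == s || T.pr D s r == 0

variable {D : ChevalleyDatum} {len : ℕ → ℕ} {T : Tab} {R : List (List ℕ)} {Cs : List RankCert}
  {F : Type*} [Field F] [CharP F 2] (hS : Rules D F)

/-- The classes are those of the representatives. -/
structure Classes (D : ChevalleyDatum) (F : Type*) [Field F] (R : List (List ℕ)) : Prop where
  rep : ∀ l ∈ R, xS D F l ∈ D.group F ∧ orderOf (xS D F l) = 2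
  exhaust : ∀ g ∈ D.group F, orderOf g = 2 → ∃ l ∈ R, ∃ h ∈ D.group F, h * g * h⁻¹ = xS D F l
  distinct : ∀ l ∈ R, ∀ l' ∈ R, ∀ h : GL D.Idx F, h * xS D F l * h⁻¹ = xS D F l' → l = l'

include hS in
theorem xS_sq (hG : Good D len) : ∀ l : List ℕ, (∀ s ∈ l, s < D.nroots ∧ ∀ r ∈ l, r = s ∨ pr D s r = 0) →
    xS D F l * xS D F l = 1 := by
  intro l
  induction l with
  | nil => intro _; simp [xS]
  | cons s l ih =>
    intro h
    have hs := (h s List.mem_cons_self).1
    have hc : Commute (X D s (1 : F)) (xS D F l) := by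
      refine Commute.list_prod_right _ _ fun y hy => ?_
      obtain ⟨r, hr, rfl⟩ := List.mem_map.1 hy
      refine X_commute hS hG hs (h r (List.mem_cons_of_mem _ hr)).1 ?_ 1 1
      rcases (h s List.mem_cons_self).2 r (List.mem_cons_of_mem _ hr) with rfl | e
      · rw [hG.pr_self hs]
        norm_num
      · rw [e]
    have ih' := ih fun x hx => ⟨(h x (List.mem_cons_of_mem _ hx)).1,
      fun r hr => (h x (List.mem_cons_of_mem _ hx)).2 r (List.mem_cons_of_mem _ hr)⟩
    show X D s 1 * xS D F l * (X D s 1 * xS D F l) = 1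
    rw [← mul_assoc, mul_assoc (X D s (1 : F)) (xS D F l) (X D s 1), ← hc.eq, ← mul_assoc,
      X_self hS hs, one_mul, ih']

variable [Fintype F]

include hS in
theorem classes (hG : Good D len) (hT : tabB D T = true) {Ns : List Node}
    (htree : treeB D T R Ns = true) (hcert : ∀ C ∈ Cs, rankB D C = true) (hrep : repB D T R Cs = true) :
    Classes D F R := by
  classical
  simp only [repB, Bool.and_eq_true, beq_iff_eq, decide_eq_true_eq, List.all_eq_true, Bool.or_eq_true] at hrep
  obtain ⟨⟨⟨hmap, hnd⟩, hpos⟩, horth⟩ := hrep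
  have hC : ∀ l ∈ R, ∃ C ∈ Cs, C.mats.map Prod.fst = l := fun l hl => by
    rw [← hmap, List.mem_map] at hl
    exact hl
  have hl' : ∀ l ∈ R, ∀ s ∈ l, s < D.nroots ∧ ∀ r ∈ l, r = s ∨ pr D s r = 0 := fun l hl s hs =>
    ⟨(horth l hl s hs).1, fun r hr => ((horth l hl s hs).2 r hr).imp_right fun e => by
      rwa [Tab.pr_eq hT (horth l hl s hs).1 (horth l hl r hr).1] at e⟩
  have hne : ∀ l ∈ R, xS D F l ≠ 1 := fun l hl => by
    obtain ⟨C, hC, rfl⟩ := hC l hl
    exact xS_ne_one hS (hcert C hC) (hpos C hC)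
  refine ⟨fun l hl => ⟨xS_mem hS fun s hs => (hl' l hl s hs).1, ?_⟩, fun g hg hord => ?_, ?_⟩
  · exact orderOf_eq_prime (by rw [sq]; exact xS_sq hS hG l (hl' l hl)) (hne l hl)
  · -- move the involution into `U`
    set G := D.group F
    set U : Subgroup ↥G := (D.posUnipotent F).subgroupOf G with hUdef
    have hle : D.posUnipotent F ≤ G := by
      rw [posUnipotent_eq hS]
      exact US_le_group hS fun r hr => hr.1
    have hU2 : IsPGroup 2 ↥U := by
      obtain ⟨n, -, hn⟩ := FiniteField.card F 2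
      refine IsPGroup.of_card (n := (n : ℕ) * Nat.card (posSet D)) ?_
      rw [Nat.card_congr (Subgroup.subgroupOfEquivOfLe hle).toEquiv, posUnipotent_eq hS, Sys.Ubar,
        (glSys hS).card_US hG.root hG.root.posSet_closed, Nat.card_eq_fintype_card, hn, ← pow_mul]
    haveI : U.FiniteIndex := inferInstance
    let P : Sylow 2 ↥G := hU2.toSylow fun h =>
      Nat.not_even_iff_odd.2 (Known.ChevFieldInvol.odd_index_posUnipotent hS hG.root) (even_iff_two_dvd.2 h)
    let g' : ↥G := ⟨g, hg⟩
    have hpg : IsPGroup 2 ↥(Subgroup.zpowers g') := by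
      refine IsPGroup.of_card (n := 1) ?_
      rw [Nat.card_zpowers, pow_one, ← hord, ← Subgroup.orderOf_coe]
    obtain ⟨Q, hQ⟩ := hpg.exists_le_sylow
    obtain ⟨c, hc⟩ := MulAction.exists_smul_eq ↥G Q P
    have hm : c * g' * c⁻¹ ∈ U := by
      have h1 : c * g' * c⁻¹ ∈ ((c • Q : Sylow 2 ↥G) : Subgroup ↥G) := by
        rw [Sylow.coe_subgroup_smul]
        exact ⟨g', hQ (Subgroup.mem_zpowers g'), rfl⟩
      rw [hc] at h1
      exact h1
    have hu : (c : GL D.Idx F) * g * (c : GL D.Idx F)⁻¹ ∈ (glSys hS).Ubar := by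
      rw [← posUnipotent_eq hS]
      exact Subgroup.mem_subgroupOf.1 hm
    have hg2 : g * g = 1 := by rw [← sq, ← hord, pow_orderOf_eq_one]
    rcases reach_of_mem hS hG hT htree hu (by rw [_root_.conj_mul, hg2, mul_one, mul_inv_cancel]) with e | e
    · exact absurd (conj_eq_one_iff.1 e) fun h => by simp [h] at hord
    · obtain ⟨k, hk, l, hl, e⟩ := e
      exact ⟨l, hl, k * c, mul_mem hk c.2, by rw [← e]; group⟩
  · intro l hl l' hl'' h e
    obtain ⟨C, hC1, rfl⟩ := hC l hl
    obtain ⟨C', hC2, rfl⟩ := hC l' hl''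
    have h1 := rank_le_of_conj hS (hcert C hC1) (hcert C' hC2) e
    have h2 := rank_le_of_conj hS (g := h⁻¹) (hcert C' hC2) (hcert C hC1) (by rw [← e]; group)
    rw [List.inj_on_of_nodup_map hnd hC1 hC2 (le_antisymm h2 h1)]

end Cfsg.Agent.EInvol
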