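import Cfsg.Agent.EInvol.Rel

/-!
# The positive roots orthogonal to a set of roots, and their simple roots
-/

set_option autoImplicit false

namespace Cfsg.Agent.EInvol

open Cfsg.Lie Cfsg.Agent.ChevGrp
open scoped MatrixGroups

variable {D : ChevalleyDatum} {len : ℕ → ℕ}

variable (D) in
/-- Twice the height, corrected to vanish on `a` and to be invariant under its reflection. -/
def psiA (a : ℕ) : (Fin D.rank → ℤ) →+ ℤ := (2 : ℤ) • htHom D - htz D a • prHom D a

variable (D) in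
/-- `a` is a simple root of the subsystem orthogonal to `S`. -/
def SimpleIn (S : List ℕ) (a : ℕ) : Prop :=
  a ∈ psiP D S ∧ ∀ r ∈ psiP D S, r ≠ a → 0 < 2 * htz D r - htz D a * pr D r a

theorem psiP_lt {S : List ℕ} {r : ℕ} (h : r ∈ psiP D S) : r < D.nroots := h.1.1

theorem psiP_append {S : List ℕ} {a r : ℕ} :
    r ∈ psiP D (S ++ [a]) ↔ r ∈ psiP D S ∧ pr D r a = 0 := by
  simp only [psiP, Set.mem_setOf_eq, List.mem_append, List.mem_singleton]
  exact ⟨fun h => ⟨⟨h.1, fun s hs => h.2 s (Or.inl hs)⟩, h.2 a (Or.inr rfl)⟩,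
    fun h => ⟨h.1.1, fun s hs => hs.elim (h.1.2 s) fun e => e ▸ h.2⟩⟩

namespace Good

variable (hG : Good D len)
include hG

theorem psiA_apply {r : ℕ} (hr : r < D.nroots) (a : ℕ) :
    psiA D a (vec D len r) = 2 * htz D r - htz D a * pr D r a := by
  simp [psiA, hG.pr_eq hr, hG.htz_eq hr]

theorem psiA_self {a : ℕ} (ha : a < D.nroots) : psiA D a (vec D len a) = 0 := by
  rw [hG.psiA_apply ha, hG.pr_self ha]
  ring

theorem psi_closed (S : List ℕ) : UClosed D len (htHom D) (psiP D S) where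
  lt _ h := h.1.1
  pos r h := (hG.root.pos_iff_ht h.1.1).1 h.1
  closed r hr s hs hne c hc := by
    have hne' : s ≠ D.neg r := hG.root.posSet_closed.ne_neg hG.root hr.1 hs.1
    refine ⟨hG.root.posSet_closed.closed r hr.1 s hs.1 hne c hc, fun x hx => ?_⟩
    obtain ⟨hlt, -, -, hv⟩ := hG.root.commTerms_vec r hr.1.1 s hs.1.1 hne hne' c hc
    rw [hG.pr_lin hr.1.1 hs.1.1 hlt hv, hr.2 x hx, hs.2 x hx]
    ring

theorem psiA_closed {S : List ℕ} {a : ℕ} (ha : SimpleIn D S a) :
    UClosed D len (psiA D a) (psiP D S \ {a}) where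
  lt r h := h.1.1.1
  pos r h := by
    rw [hG.psiA_apply h.1.1.1]
    exact ha.2 r h.1 h.2
  closed r hr s hs hne c hc := by
    refine ⟨(hG.psi_closed S).closed r hr.1 s hs.1 hne c hc, fun e => ?_⟩
    have hne' : s ≠ D.neg r := hG.root.posSet_closed.ne_neg hG.root hr.1.1 hs.1.1
    obtain ⟨-, hi, hj, hv⟩ := hG.root.commTerms_vec r hr.1.1.1 s hs.1.1.1 hne hne' c hc
    have h0 : psiA D a (vec D len c.1) = 0 := by
      rw [show c.1 = a from e]
      exact hG.psiA_self (psiP_lt ha.1)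
    have h1 := ha.2 r hr.1 hr.2
    have h2 := ha.2 s hs.1 hs.2
    rw [← hG.psiA_apply hr.1.1.1] at h1
    rw [← hG.psiA_apply hs.1.1.1] at h2
    rw [hv, map_add, map_zsmul, map_zsmul, smul_eq_mul, smul_eq_mul] at h0
    have hi' : (1 : ℤ) ≤ (c.2.2.1 : ℤ) := by exact_mod_cast hi
    have hj' : (1 : ℤ) ≤ (c.2.2.2 : ℤ) := by exact_mod_cast hj
    nlinarith

theorem pr_cases_simple {S : List ℕ} {a r : ℕ} (ha : SimpleIn D S a) (hr : r ∈ psiP D S) (hne : r ≠ a) :
    pr D r a = -1 ∨ pr D r a = 0 ∨ pr D r a = 1 :=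
  hG.pr_cases hr.1.1 ha.1.1.1 (Ne.symm hne) (hG.root.posSet_closed.ne_neg hG.root hr.1 ha.1.1)

/-- The reflection in a simple root of the subsystem permutes its other positive roots. -/
theorem refl_mem {S : List ℕ} {a : ℕ} (ha : SimpleIn D S a) {σ : ℕ → ℕ}
    (hσ : ∀ s < D.nroots, σ s < D.nroots ∧
      vec D len (σ s) = (1 : ℤ) • vec D len s + (-pr D a s) • vec D len a)
    {r : ℕ} (hr : r ∈ psiP D S) (hne : r ≠ a) :
    σ r ∈ psiP D S ∧ σ r ≠ a ∧ psiA D a (vec D len (σ r)) = psiA D a (vec D len r) := by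
  have hal := psiP_lt ha.1
  obtain ⟨hk, hv⟩ := hσ r hr.1.1
  have hpsi : psiA D a (vec D len (σ r)) = psiA D a (vec D len r) := by
    rw [hv, map_add, map_zsmul, map_zsmul, hG.psiA_self hal]
    simp
  have hpos : 0 < psiA D a (vec D len (σ r)) := by
    rw [hpsi, hG.psiA_apply hr.1.1]
    exact ha.2 r hr hne
  have horth : ∀ x ∈ S, pr D (σ r) x = 0 := fun x hx => by
    rw [hG.pr_lin hr.1.1 hal hk hv, hr.2 x hx, ha.1.2 x hx]
    ring
  refine ⟨⟨?_, horth⟩, fun e => ?_, hpsi⟩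
  · rcases hG.root.sign _ hk with h | h
    · exact h
    exfalso
    have hq : D.neg (σ r) ∈ psiP D S :=
      ⟨(hG.root.pos_neg_iff hk).2 h, fun x hx => by rw [hG.pr_neg hk, horth x hx, neg_zero]⟩
    have hq0 : psiA D a (vec D len (D.neg (σ r))) = -psiA D a (vec D len (σ r)) :=
      hG.root.deg_neg _ hk
    by_cases hqa : D.neg (σ r) = a
    · rw [hqa, hG.psiA_self hal] at hq0
      omega
    · have := ha.2 _ hq hqa
      rw [← hG.psiA_apply hq.1.1] at this
      omega
  · rw [e, hG.psiA_self hal] at hpos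
    omega

end Good

variable {F : Type*} [Field F] [CharP F 2]

/-- The product of the root elements of parameter one. -/
noncomputable def xS (D : ChevalleyDatum) (F : Type*) [Field F] (S : List ℕ) : GL D.Idx F :=
  (S.map fun r => X D (F := F) r 1).prod

variable (hS : Rules D F) (hG : Good D len)

omit [CharP F 2] in
include hS in
theorem US_le_group {T : Set ℕ} (hT : ∀ r ∈ T, r < D.nroots) : (glSys hS).US T ≤ D.group F := by
  rw [Sys.US, Subgroup.closure_le]
  rintro _ ⟨r, hr, t, rfl⟩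
  exact X_mem hS (hT r hr) t

include hS hG in
theorem commute_xS {S : List ℕ} (hlt : ∀ s ∈ S, s < D.nroots) {g : GL D.Idx F}
    (hg : g ∈ (glSys hS).US (psiP D S)) : Commute g (xS D F S) := by
  refine Subgroup.closure_induction ?_ (Commute.one_left _) (fun _ _ _ _ => Commute.mul_left)
    (fun _ _ => Commute.inv_left) hg
  rintro _ ⟨r, hr, t, rfl⟩
  refine Commute.list_prod_right _ _ fun y hy => ?_
  obtain ⟨s, hs, rfl⟩ := List.mem_map.1 hy
  exact X_commute hS hG hr.1.1 (hlt s hs) (by rw [hr.2 s hs]) t 1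

omit [CharP F 2] in
include hS in
theorem xS_mem {S : List ℕ} (hlt : ∀ s ∈ S, s < D.nroots) : xS D F S ∈ D.group F :=
  list_prod_mem fun y hy => by
    obtain ⟨s, hs, rfl⟩ := List.mem_map.1 hy
    exact X_mem hS (hlt s hs) 1

end Cfsg.Agent.EInvol
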