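import Cfsg.Agent.EInvol.Tree
import Cfsg.Agent.ChevGrp.FieldAut
import Mathlib.LinearAlgebra.Matrix.Rank

/-!
# Ranks over the field with two elements, by bit masks of columns
-/

set_option autoImplicit false

namespace Cfsg.Agent.EInvol

open Cfsg.Lie Cfsg.Agent.ChevGrp

/-- A bit as an element of the field with two elements. -/
def b2z (b : Bool) : ZMod 2 := if b then 1 else 0

theorem b2z_xor (x y : Bool) : b2z (x ^^ y) = b2z x + b2z y := by
  revert x y
  decide

/-- A mask with one bit. -/
def sh (k : ℕ) : ℕ := 1 <<< k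

/-- The mask of a list of positions. -/
def maskOf (I : List ℕ) : ℕ := I.foldr (fun i acc => sh i ^^^ acc) 0

/-- The sum of the columns at the given positions. -/
def applyI (A : List ℕ) (I : List ℕ) : ℕ := I.foldr (fun i acc => A.getD i 0 ^^^ acc) 0

/-- All positions lie below `k`. -/
def boundB (k : ℕ) (B : List (List ℕ)) : Bool := B.all fun I => I.all fun i => decide (i < k)

/-- The matrix with the given columns. -/
def toMat (m n : ℕ) (cols : List ℕ) : Matrix (Fin m) (Fin n) (ZMod 2) :=
  Matrix.of fun a b => b2z ((cols.getD b.val 0).testBit a.val)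

theorem applyI_bit (A : List ℕ) (a : ℕ) : ∀ I : List ℕ, (∀ i ∈ I, i < A.length) →
    b2z ((applyI A I).testBit a) =
      ∑ j : Fin A.length, b2z ((A.getD j.val 0).testBit a) * b2z ((maskOf I).testBit j.val) := by
  intro I
  induction I with
  | nil => intro _; simp [applyI, maskOf, b2z]
  | cons i I ih =>
    intro h
    obtain ⟨hi, hI⟩ := List.forall_mem_cons.1 h
    have e1 : applyI A (i :: I) = A.getD i 0 ^^^ applyI A I := rfl
    have e2 : maskOf (i :: I) = sh i ^^^ maskOf I := rfl
    have hbit : ∀ j : ℕ, b2z ((sh i).testBit j) = if j = i then 1 else 0 := fun j => by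
      rw [sh, Nat.one_shiftLeft, Nat.testBit_two_pow]
      by_cases h : j = i
      · simp [b2z, h]
      · simp [b2z, h, Ne.symm h]
    rw [e1, e2, Nat.testBit_xor, b2z_xor, ih hI]
    simp only [Nat.testBit_xor, b2z_xor, hbit, mul_add, Finset.sum_add_distrib]
    congr 1
    rw [Finset.sum_eq_single (⟨i, hi⟩ : Fin A.length) (fun j _ hj => by
      rw [if_neg fun e => hj (Fin.ext e), mul_zero]) (by simp)]
    simp

theorem toMat_mul (m k n : ℕ) (A : List ℕ) (B : List (List ℕ)) (hA : A.length = k)
    (hB : boundB k B = true) :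
    toMat m k A * toMat k n (B.map maskOf) = toMat m n (B.map (applyI A)) := by
  subst hA
  simp only [boundB, List.all_eq_true, decide_eq_true_eq] at hB
  ext a b
  simp only [toMat, Matrix.mul_apply, Matrix.of_apply]
  by_cases hb : b.val < B.length
  · simp only [List.getD_eq_getElem _ _ (show b.val < (B.map maskOf).length by simpa using hb),
      List.getD_eq_getElem _ _ (show b.val < (B.map (applyI A)).length by simpa using hb), List.getElem_map]
    rw [applyI_bit A a.val _ (hB _ (List.getElem_mem hb))]
  · rw [List.getD_eq_default _ _ (by simpa using hb), List.getD_eq_default _ _ (by simpa using hb)]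
    simp [b2z]

variable (D : ChevalleyDatum)

/-- The position of a coordinate, Cartan part first. -/
def posI : D.Idx ≃ Fin (D.rank + D.nroots) := finSumFinEquiv

/-- The mask of the odd chain coefficients in one column. -/
def chainMask (r s : ℕ) : ℕ :=
  (((D.chain.getD r #[]).toList.filter fun e => e.1 = s).flatMap fun e => e.2.toList).foldr
    (fun (q : ℕ × ℤ) (acc : ℕ) => acc ^^^ (if q.2 % 2 = 0 then 0 else sh (D.rank + q.1))) 0

/-- A column of `x_r(1)` modulo two. -/
def colMask (r : ℕ) (b : ℕ) : ℕ :=
  if b < D.rank then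
    (sh b) ^^^ (if D.cartan b r % 2 = 0 then 0 else sh (D.rank + r))
  else
    let s := b - D.rank
    if s = r then sh b
    else if s = D.neg r then
      ((List.range D.rank).foldr
        (fun i acc => acc ^^^ (if (D.coroot.getD r #[]).getD i 0 % 2 = 0 then 0 else sh i))
        ((sh b) ^^^ (sh (D.rank + r))))
    else (sh b) ^^^ chainMask D r s

theorem bit_shift (k a : ℕ) : b2z ((sh k).testBit a) = if a = k then 1 else 0 := by
  rw [sh, Nat.one_shiftLeft, Nat.testBit_two_pow]
  by_cases h : a = k
  · simp [b2z, h]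
  · simp [b2z, h, Ne.symm h]

theorem intCast_zmod_two (z : ℤ) : (z : ZMod 2) = if z % 2 = 0 then 0 else 1 := by
  rw [← ZMod.intCast_mod z 2]
  rcases Int.emod_two_eq_zero_or_one z with h | h <;> simp [h]

theorem chainMask_bit (L : List (ℕ × ℤ)) (l a : ℕ) :
    b2z ((L.foldr (fun (q : ℕ × ℤ) (acc : ℕ) => acc ^^^ (if q.2 % 2 = 0 then 0 else sh (l + q.1))) 0).testBit a) =
      (L.map fun q => if a = l + q.1 then ((q.2 : ℤ) : ZMod 2) else 0).sum := by
  induction L with
  | nil => simp [b2z]
  | cons q L ih =>
    rw [List.foldr_cons, Nat.testBit_xor, b2z_xor, ih, List.map_cons, List.sum_cons, add_comm]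
    congr 1
    rw [intCast_zmod_two]
    by_cases h : q.2 % 2 = 0
    · simp [h, b2z]
    · rw [if_neg h, bit_shift, if_neg h]

theorem sum_flatMap_sum {α : Type*} (L : List α) (f g : α → List (ZMod 2))
    (h : ∀ x ∈ L, (f x).sum = (g x).sum) : (L.flatMap f).sum = (L.flatMap g).sum := by
  induction L with
  | nil => rfl
  | cons x L ih =>
    rw [List.flatMap_cons, List.flatMap_cons, List.sum_append, List.sum_append, h x List.mem_cons_self,
      ih fun y hy => h y (List.mem_cons_of_mem _ hy)]

theorem chainSum_eq (r s u : ℕ) :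
    ((D.chainCoeff r s u).map fun km => ((km.2 : ℤ) : ZMod 2) * 1 ^ km.1).sum =
      b2z ((chainMask D r s).testBit (D.rank + u)) := by
  rw [chainMask, chainMask_bit, ChevalleyDatum.chainCoeff, List.map_flatMap, List.map_flatMap]
  refine sum_flatMap_sum _ _ _ fun e _ => ?_
  simp only [List.map_map, one_pow, mul_one, add_right_inj]
  generalize e.2.toList = L
  suffices H : ∀ n : ℕ, (((L.zipIdx n).filter fun q => decide (q.1.1 = u)).map
      fun q => ((q.1.2 : ℤ) : ZMod 2)).sum = (L.map fun q => if u = q.1 then ((q.2 : ℤ) : ZMod 2) else 0).sum from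
    H 0
  induction L with
  | nil => intro n; simp
  | cons q L ih =>
    intro n
    rw [List.zipIdx_cons, List.map_cons, List.sum_cons, ← ih (n + 1)]
    by_cases h : q.1 = u
    · simp [h]
    · simp [h, Ne.symm h]

theorem foldr_cor (L : List ℕ) (hL : L.Nodup) (f : ℕ → ℤ) (z a : ℕ) :
    b2z ((L.foldr (fun i acc => acc ^^^ (if f i % 2 = 0 then 0 else sh i)) z).testBit a) =
      b2z (z.testBit a) + if a ∈ L then ((f a : ℤ) : ZMod 2) else 0 := by
  induction L with
  | nil => simp
  | cons i L ih =>
    obtain ⟨hi, hL'⟩ := List.nodup_cons.1 hL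
    rw [List.foldr_cons, Nat.testBit_xor, b2z_xor, ih hL', add_assoc]
    congr 1
    by_cases h : a = i
    · subst h
      rw [if_neg hi, if_pos List.mem_cons_self, zero_add, intCast_zmod_two]
      by_cases h : f a % 2 = 0
      · simp [h, b2z]
      · rw [if_neg h, bit_shift, if_pos rfl, if_neg h]
    · simp only [List.mem_cons, h, false_or]
      conv_rhs => rw [← add_zero (if a ∈ L then ((f a : ℤ) : ZMod 2) else 0)]
      congr 1
      by_cases h2 : f i % 2 = 0
      · simp [h2, b2z]
      · rw [if_neg h2, bit_shift, if_neg h]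

theorem posI_inl (i : Fin D.rank) : (posI D (Sum.inl i)).val = i.val := by simp [posI]

theorem posI_inr (u : Fin D.nroots) : (posI D (Sum.inr u)).val = D.rank + u.val := by simp [posI]

theorem colMask_inl {r i : ℕ} (hi : i < D.rank) :
    colMask D r i = sh i ^^^ (if D.cartan i r % 2 = 0 then 0 else sh (D.rank + r)) := if_pos hi

theorem colMask_inr (r s : ℕ) :
    colMask D r (D.rank + s) =
      if s = r then sh (D.rank + s)
      else if s = D.neg r then
        ((List.range D.rank).foldr
          (fun i acc => acc ^^^ (if (D.coroot.getD r #[]).getD i 0 % 2 = 0 then 0 else sh i))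
          (sh (D.rank + s) ^^^ sh (D.rank + r)))
      else sh (D.rank + s) ^^^ chainMask D r s := by
  simp only [colMask, if_neg (show ¬ D.rank + s < D.rank by omega), Nat.add_sub_cancel_left]

theorem bit_if (z : ℤ) (k a : ℕ) :
    b2z ((if z % 2 = 0 then 0 else sh k).testBit a) = if a = k then (z : ZMod 2) else 0 := by
  rw [intCast_zmod_two]
  by_cases h : z % 2 = 0
  · simp [h, b2z]
  · rw [if_neg h, bit_shift, if_neg h]

/-- Columns of `x_r(1)` modulo two. -/
theorem x_mask {r : ℕ} (hr : r < D.nroots) (hn : D.neg r ≠ r) :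
    (D.x (ZMod 2) r 1).reindex (posI D) (posI D) =
      toMat (D.rank + D.nroots) (D.rank + D.nroots) ((List.range (D.rank + D.nroots)).map (colMask D r)) := by
  ext a b
  simp only [Matrix.reindex_apply, Matrix.submatrix_apply, toMat, Matrix.of_apply]
  rw [List.getD_eq_getElem _ _ (by simp [b.2]), List.getElem_map, List.getElem_range,
    ChevalleyDatum.x, dif_pos hr]
  obtain ⟨a, rfl⟩ := (posI D).surjective a
  obtain ⟨b, rfl⟩ := (posI D).surjective b
  rw [Equiv.symm_apply_apply, Equiv.symm_apply_apply]
  rcases b with i | s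
  · rw [posI_inl, colMask_inl D i.2, Nat.testBit_xor, b2z_xor, bit_shift, bit_if]
    rcases a with i' | u
    · rw [posI_inl, if_neg (show ¬ i'.val = D.rank + r by omega), add_zero]
      exact if_congr Fin.ext_iff rfl rfl
    · rw [posI_inr, if_neg (show ¬ D.rank + u.val = i by omega), zero_add]
      show (if u = ⟨r, hr⟩ then -((D.cartan i r : ℤ) : ZMod 2) * 1 else 0) = _
      rw [mul_one, CharTwo.neg_eq]
      exact if_congr (by rw [Fin.ext_iff]; exact ⟨fun h => by simp [h], fun h => by simpa using h⟩) rfl rfl
  · rw [posI_inr, colMask_inr]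
    by_cases h1 : s = ⟨r, hr⟩
    · subst h1
      rw [if_pos rfl, bit_shift]
      rcases a with i' | u
      · rw [posI_inl, if_neg (show ¬ i'.val = D.rank + r by omega)]
        simp [ChevalleyDatum.xMat]
      · rw [posI_inr]
        simp [ChevalleyDatum.xMat, Fin.ext_iff]
    have h1' : ¬ (s : ℕ) = r := fun e => h1 (Fin.ext e)
    rw [if_neg h1']
    by_cases h2 : (s : ℕ) = D.neg r
    · have h2' : (s : ℕ) = D.negIdx.getD r 0 := h2
      rw [if_pos h2, foldr_cor _ List.nodup_range, Nat.testBit_xor, b2z_xor, bit_shift, bit_shift]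
      rcases a with i' | u
      · rw [posI_inl, if_neg (show ¬ i'.val = D.rank + s by omega),
          if_neg (show ¬ i'.val = D.rank + r by omega), if_pos (List.mem_range.2 i'.2)]
        simp [ChevalleyDatum.xMat, h1, h2', -Array.getD_eq_getD_getElem?]
      · rw [posI_inr, if_neg (show ¬ D.rank + u.val ∈ List.range D.rank by simp), add_zero]
        by_cases hu : (u : ℕ) = s
        · simp [ChevalleyDatum.xMat, h1, h2', h1', hu, Fin.ext hu, -Array.getD_eq_getD_getElem?,
            show ¬ D.negIdx.getD r 0 = r from hn]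
        · have hu' : ¬ u = s := fun e => hu (congrArg Fin.val e)
          by_cases hur : (u : ℕ) = r
          · simp [ChevalleyDatum.xMat, h1, h2', hur, hu', Fin.ext_iff, -Array.getD_eq_getD_getElem?, CharTwo.neg_eq,
              Ne.symm (show D.negIdx.getD r 0 ≠ r from hn)]
          · simp [ChevalleyDatum.xMat, h1, h2', hu, hur, Fin.ext_iff, -Array.getD_eq_getD_getElem?,
              show ¬ D.negIdx.getD r 0 = r from hn, show ¬ u.val = D.negIdx.getD r 0 from h2' ▸ hu]
    · have h2' : ¬ (s : ℕ) = D.negIdx.getD r 0 := h2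
      rw [if_neg h2, Nat.testBit_xor, b2z_xor, bit_shift]
      rcases a with i' | u
      · rw [posI_inl, if_neg (show ¬ i'.val = D.rank + s by omega), zero_add, chainMask, chainMask_bit,
          List.sum_eq_zero]
        · simp [ChevalleyDatum.xMat, h1, h2', -Array.getD_eq_getD_getElem?]
        intro x hx
        obtain ⟨q, -, rfl⟩ := List.mem_map.1 hx
        exact if_neg (by omega)
      · rw [posI_inr, ← chainSum_eq]
        simp [ChevalleyDatum.xMat, h1', h2', Fin.ext_iff, -Array.getD_eq_getD_getElem?]

/-- A certificate for the rank of a product minus one. Dense factors are lists of masks, sparse ones lists of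
positions. -/
structure RankCert where
  /-- the roots with their columns -/
  mats : List (ℕ × List ℕ)
  /-- the products of the final segments after the first -/
  segs : List (List (List ℕ))
  /-- the product -/
  out : List (List ℕ)
  /-- the product minus one -/
  M : List ℕ
  /-- the rank -/
  k : ℕ
  /-- left factor -/
  A : List ℕ
  /-- right factor -/
  B : List (List ℕ)
  /-- left multiplier -/
  P : List ℕ
  /-- right multiplier -/
  Q : List (List ℕ)
  /-- the image of the right multiplier -/
  MQ : List (List ℕ)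

/-- The columns of the product. -/
def prodCols (N : ℕ) : List (ℕ × List ℕ) → Matrix (Fin N) (Fin N) (ZMod 2)
  | [] => 1
  | m :: ms => toMat N N m.2 * prodCols N ms

/-- The check of a chain of products. -/
def prodB (N : ℕ) : List (ℕ × List ℕ) → List (List (List ℕ)) → List (List ℕ) → Bool
  | [], _, out => out.map maskOf == (List.range N).map fun b => sh b
  | m :: ms, st :: sts, out =>
    boundB N st && m.2.length == N && st.map (applyI m.2) == out.map maskOf && prodB N ms sts st
  | _ :: _, [], _ => false

/-- The check of a rank certificate. -/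
def rankB (C : RankCert) : Bool :=
  let N := D.rank + D.nroots
  (C.mats.all fun m => decide (m.1 < D.nroots) && D.neg m.1 != m.1 &&
      (List.range N).map (colMask D m.1) == m.2) &&
    prodB N C.mats C.segs C.out &&
    (List.zipWith (fun c b => c ^^^ (sh b)) (C.out.map maskOf) (List.range N)) == C.M &&
    C.M.length == N && C.A.length == C.k && boundB C.k C.B && C.B.map (applyI C.A) == C.M &&
    boundB N C.Q && C.Q.map (applyI C.M) == C.MQ.map maskOf &&
    C.P.length == N && boundB N C.MQ && C.MQ.map (applyI C.P) == (List.range C.k).map fun b => sh b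

variable {D}

theorem toMat_one (n : ℕ) : toMat n n ((List.range n).map fun b => sh b) = 1 := by
  ext a b
  simp only [toMat, Matrix.of_apply]
  rw [List.getD_eq_getElem _ _ (by simp [b.2]), List.getElem_map, List.getElem_range, bit_shift,
    Matrix.one_apply]
  exact if_congr Fin.val_inj rfl rfl

/-- The product of the matrices over the field with two elements. -/
def prodMat (D : ChevalleyDatum) (l : List ℕ) : Matrix D.Idx D.Idx (ZMod 2) :=
  (l.map fun r => D.x (ZMod 2) r 1).prod

theorem prodB_sound (N : ℕ) : ∀ (ms : List (ℕ × List ℕ)) (sts : List (List (List ℕ))) (out : List (List ℕ)),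
    prodB N ms sts out = true → prodCols N ms = toMat N N (out.map maskOf) := by
  intro ms
  induction ms with
  | nil =>
    intro sts out h
    rw [prodB, beq_iff_eq] at h
    rw [prodCols, h, toMat_one]
  | cons m ms ih =>
    intro sts out h
    cases sts with
    | nil => simp [prodB] at h
    | cons st sts =>
      simp only [prodB, Bool.and_eq_true, beq_iff_eq] at h
      obtain ⟨⟨⟨hb, hl⟩, he⟩, hrest⟩ := h
      rw [prodCols, ih sts st hrest, toMat_mul N N N m.2 st hl hb, he]

theorem prodCols_sound : ∀ ms : List (ℕ × List ℕ),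
    (∀ m ∈ ms, m.1 < D.nroots ∧ D.neg m.1 ≠ m.1 ∧
      (List.range (D.rank + D.nroots)).map (colMask D m.1) = m.2) →
    (prodMat D (ms.map Prod.fst)).reindex (posI D) (posI D) = prodCols (D.rank + D.nroots) ms := by
  intro ms
  induction ms with
  | nil =>
    intro _
    rw [prodCols]
    simp [prodMat, Matrix.reindex_apply]
  | cons m ms ih =>
    intro h
    obtain ⟨h1, h2, h3⟩ := h m List.mem_cons_self
    have ih' := ih fun x hx => h x (List.mem_cons_of_mem _ hx)
    simp only [Matrix.reindex_apply] at ih' ⊢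
    rw [prodMat, List.map_cons, List.map_cons, List.prod_cons, ← prodMat, prodCols, ← ih',
      ← Matrix.submatrix_mul_equiv _ _ _ (posI D).symm _, ← h3, ← x_mask D h1 h2, Matrix.reindex_apply]

/-- The factorisation and the unit minor. -/
theorem rank_facts {C : RankCert} (h : rankB D C = true) :
    ∃ (A : Matrix D.Idx (Fin C.k) (ZMod 2)) (B : Matrix (Fin C.k) D.Idx (ZMod 2))
      (P : Matrix (Fin C.k) D.Idx (ZMod 2)) (Q : Matrix D.Idx (Fin C.k) (ZMod 2)),
      prodMat D (C.mats.map Prod.fst) - 1 = A * B ∧ P * (A * B) * Q = 1 := by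
  simp only [rankB, Bool.and_eq_true, List.all_eq_true, decide_eq_true_eq, beq_iff_eq, bne_iff_ne] at h
  obtain ⟨⟨⟨⟨⟨⟨⟨⟨⟨⟨⟨hm, hout⟩, hM⟩, hMl⟩, hA⟩, hBb⟩, hBA⟩, hQb⟩, hMQ0⟩, hP⟩, hMQb⟩, hQP⟩ := h
  set N := D.rank + D.nroots with hN
  have hprod := prodCols_sound C.mats fun m hm' => ⟨(hm m hm').1.1, (hm m hm').1.2, (hm m hm').2⟩
  rw [prodB_sound _ _ _ _ hout] at hprod
  have hol : ∀ b : Fin N, b.val < (C.out.map maskOf).length := fun b => by
    have h1 := congrArg List.length hM
    rw [List.length_zipWith, List.length_range, hMl] at h1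
    have := b.2
    omega
  have e : toMat N N (C.out.map maskOf) - 1 = toMat N N C.M := by
    rw [← hM]
    ext a b
    rw [Matrix.sub_apply]
    simp only [toMat, Matrix.of_apply]
    rw [List.getD_eq_getElem _ _ (hol b), List.getD_eq_getElem _ _ (by simpa using hol b),
      List.getElem_zipWith, List.getElem_range, Nat.testBit_xor, b2z_xor, bit_shift, CharTwo.sub_eq_add,
      Matrix.one_apply]
    congr 1
    exact if_congr Fin.val_inj.symm rfl rfl
  have hAB : toMat N C.k C.A * toMat C.k N (C.B.map maskOf) = toMat N N C.M := by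
    rw [toMat_mul _ _ _ _ _ hA hBb, hBA]
  have hMQ : toMat N N C.M * toMat N C.k (C.Q.map maskOf) = toMat N C.k (C.MQ.map maskOf) := by
    rw [toMat_mul _ _ _ _ _ hMl hQb, hMQ0]
  have hPMQ : toMat C.k N C.P * toMat N C.k (C.MQ.map maskOf) = 1 := by
    rw [toMat_mul _ _ _ _ _ hP hMQb, hQP, toMat_one]
  refine ⟨(toMat N C.k C.A).submatrix (posI D) id, (toMat C.k N (C.B.map maskOf)).submatrix id (posI D),
    (toMat C.k N C.P).submatrix id (posI D), (toMat N C.k (C.Q.map maskOf)).submatrix (posI D) id, ?_, ?_⟩
  · rw [← Matrix.submatrix_mul _ _ (posI D) id (posI D) Function.bijective_id, hAB, ← e, ← hprod]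
    ext a b
    simp [Matrix.one_apply, (posI D).injective.eq_iff]
  · rw [← Matrix.submatrix_mul _ _ (posI D) id (posI D) Function.bijective_id, hAB,
      ← Matrix.submatrix_mul _ _ id (posI D) (posI D) (posI D).bijective,
      ← Matrix.submatrix_mul _ _ id (posI D) id (posI D).bijective, Matrix.mul_assoc, hMQ, hPMQ]
    simp

variable {F : Type*} [Field F] [CharP F 2]

theorem xS_map (hS : Rules D F) (l : List ℕ) :
    ((xS D F l : GL D.Idx F) : Matrix D.Idx D.Idx F) =
      (prodMat D l).map (ZMod.castHom (dvd_refl 2) F) := by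
  induction l with
  | nil => simp [xS, prodMat, Matrix.map_one]
  | cons r l ih =>
    simp only [xS, prodMat, List.map_cons, List.prod_cons, Units.val_mul] at ih ⊢
    rw [Matrix.map_mul, x_map, map_one, ← ih, val_xGL hS]

/-- Ranks separate. -/
theorem rank_le_of_conj (hS : Rules D F) {C C' : RankCert} (h : rankB D C = true) (h' : rankB D C' = true)
    {g : GL D.Idx F} (e : g * xS D F (C.mats.map Prod.fst) * g⁻¹ = xS D F (C'.mats.map Prod.fst)) :
    C'.k ≤ C.k := by
  classical
  obtain ⟨A, B, -, -, hAB, -⟩ := rank_facts h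
  obtain ⟨A', B', P, Q, hAB', hPQ⟩ := rank_facts h'
  set f := ZMod.castHom (dvd_refl 2) F
  set H : Matrix D.Idx D.Idx F := (g : Matrix D.Idx D.Idx F)
  set H' : Matrix D.Idx D.Idx F := ((g⁻¹ : GL D.Idx F) : Matrix D.Idx D.Idx F)
  have hHH : H * H' = 1 := by simp [H, H']
  have e1 : (prodMat D (C'.mats.map Prod.fst) - 1).map f = H * (prodMat D (C.mats.map Prod.fst) - 1).map f * H' := by
    rw [Matrix.map_sub _ (map_sub f), Matrix.map_sub _ (map_sub f), Matrix.map_one _ (map_zero _) (map_one _),
      ← xS_map hS, ← xS_map hS, mul_sub, sub_mul, mul_one, hHH, ← e]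
    simp [H, H']
  have e2 := congrArg (fun M => M.map f) hPQ
  simp only [Matrix.map_mul, Matrix.map_one _ (map_zero _) (map_one _)] at e2
  rw [← Matrix.map_mul (L := A'), ← hAB', e1, hAB, Matrix.map_mul] at e2
  have e3 : (P.map f * (H * A.map f)) * (B.map f * H' * Q.map f) = 1 := by
    rw [← e2]
    simp only [Matrix.mul_assoc]
  have h1 := Matrix.rank_mul_le_left (P.map f * (H * A.map f)) (B.map f * H' * Q.map f)
  rw [e3, Matrix.rank_one, Fintype.card_fin] at h1
  have h2 := Matrix.rank_le_card_width (P.map f * (H * A.map f))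
  rw [Fintype.card_fin] at h2
  omega

/-- A product of positive rank is not trivial. -/
theorem xS_ne_one (hS : Rules D F) {C : RankCert} (h : rankB D C = true) (hk : 0 < C.k) :
    xS D F (C.mats.map Prod.fst) ≠ 1 := by
  intro e
  obtain ⟨A, B, P, Q, hAB, hPQ⟩ := rank_facts h
  set f := ZMod.castHom (dvd_refl 2) F
  have e2 := congrArg (fun M => M.map f) hPQ
  rw [← hAB] at e2
  simp only [Matrix.map_mul, Matrix.map_one _ (map_zero _) (map_one _), Matrix.map_sub _ (map_sub f)] at e2
  rw [← xS_map hS, e, Units.val_one, sub_self, Matrix.mul_zero, Matrix.zero_mul] at e2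
  have := congrFun (congrFun e2 ⟨0, hk⟩) ⟨0, hk⟩
  simp at this

end Cfsg.Agent.EInvol
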