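import Cfsg.Agent.EInvol.Tab
import Cfsg.Agent.ChevGrp.Simple
import Cfsg.Agent.ChevGrp.Bridge
import Cfsg.Agent.ChevGrp.NConj

/-!
# The relations between the root elements of a simply-laced group in characteristic two

Everything is transported from the fundamental roots by the Weyl elements.
-/

set_option autoImplicit false

namespace Cfsg.Agent.EInvol

open Cfsg.Lie Cfsg.Agent.ChevGrp
open scoped MatrixGroups

variable (D : ChevalleyDatum)

/-- The commutator terms of the fundamental roots. -/
def rowB : Bool :=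
  (List.range D.rank).all fun i => (List.range D.nroots).all fun s =>
    let p := D.simple i
    s == p || s == D.neg p ||
      if D.cartan i s == -1 then
        match D.commTerms p s with
        | [(k, c, 1, 1)] => (c == 1 || c == -1) && k == D.reflectRoot i s
        | _ => false
      else (D.cartan i s == 0 || D.cartan i s == 1) && (D.commTerms p s).isEmpty

/-- The hypotheses on the datum. -/
structure Good (len : ℕ → ℕ) : Prop where
  root : RootTable D len
  len1 : ∀ r < D.nroots, len r = 1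
  symm : ∀ i j : Fin D.rank, D.cartan i (D.simple j) = D.cartan j (D.simple i)
  row : rowB D = true

variable {D} {len : ℕ → ℕ}

variable (D) in
/-- The pairing with a root as a linear functional. -/
def prHom (a : ℕ) : (Fin D.rank → ℤ) →+ ℤ where
  toFun v := ∑ j, v j * D.cartan j a
  map_zero' := by simp
  map_add' v w := by simp [add_mul, Finset.sum_add_distrib]

namespace Good

variable (hG : Good D len)
include hG

theorem vec_apply {r : ℕ} (hr : r < D.nroots) (j : Fin D.rank) : vec D len r j = cf D r j := by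
  simp [vec, cf, hG.len1 r hr]

theorem pr_eq {r : ℕ} (hr : r < D.nroots) (a : ℕ) : pr D r a = prHom D a (vec D len r) := by
  simp [pr, prHom, hG.vec_apply hr]

theorem htz_eq {r : ℕ} (hr : r < D.nroots) : htz D r = htHom D (vec D len r) := by
  simp [htz, htHom, hG.vec_apply hr]

theorem cartan_sum (j : Fin D.rank) {r : ℕ} (hr : r < D.nroots) :
    D.cartan j r = ∑ i : Fin D.rank, cf D r i * D.cartan j (D.simple i) := by
  have h := hG.root.cartan_vec j j.2 r hr
  have e : ∑ i : Fin D.rank, vec D len r i * D.cartan j (D.simple i) * ((6 / len (D.simple i) : ℕ) : ℤ) =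
      6 * ∑ i : Fin D.rank, cf D r i * D.cartan j (D.simple i) := by
    rw [Finset.mul_sum]
    refine Finset.sum_congr rfl fun i _ => ?_
    rw [hG.vec_apply hr, hG.len1 _ (hG.root.simple_lt i i.2)]
    push_cast
    ring
  rw [e] at h
  omega

theorem pr_symm {r a : ℕ} (hr : r < D.nroots) (ha : a < D.nroots) : pr D r a = pr D a r := by
  have e : ∀ u v : ℕ, v < D.nroots → pr D u v =
      ∑ i : Fin D.rank, ∑ j : Fin D.rank, cf D u i * cf D v j * D.cartan i (D.simple j) := fun u v hv => by
    refine Finset.sum_congr rfl fun i _ => ?_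
    rw [hG.cartan_sum i hv, Finset.mul_sum]
    exact Finset.sum_congr rfl fun j _ => by ring
  rw [e r a ha, e a r hr, Finset.sum_comm]
  exact Finset.sum_congr rfl fun i _ => Finset.sum_congr rfl fun j _ => by rw [hG.symm j i]; ring

theorem pr_lin {r s u : ℕ} (hr : r < D.nroots) (hs : s < D.nroots) (hu : u < D.nroots) {a b : ℤ}
    (h : vec D len u = a • vec D len r + b • vec D len s) (x : ℕ) :
    pr D u x = a * pr D r x + b * pr D s x := by
  rw [hG.pr_eq hu, hG.pr_eq hr, hG.pr_eq hs, h, map_add, map_zsmul, map_zsmul, smul_eq_mul, smul_eq_mul]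

theorem pr_lin' {r s u x : ℕ} (hr : r < D.nroots) (hs : s < D.nroots) (hu : u < D.nroots)
    (hx : x < D.nroots) {a b : ℤ} (h : vec D len u = a • vec D len r + b • vec D len s) :
    pr D x u = a * pr D x r + b * pr D x s := by
  rw [hG.pr_symm hx hu, hG.pr_symm hx hr, hG.pr_symm hx hs, hG.pr_lin hr hs hu h]

theorem pr_simple (i : Fin D.rank) (s : ℕ) : pr D (D.simple i) s = D.cartan i s := by
  rw [hG.pr_eq (hG.root.simple_lt i i.2)]
  simp [prHom, hG.root.vec_simple i, hG.len1 _ (hG.root.simple_lt i i.2), Pi.single_apply]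

theorem pr_reflect (i : Fin D.rank) {r s : ℕ} (hr : r < D.nroots) (hs : s < D.nroots) :
    pr D (D.reflectRoot i r) (D.reflectRoot i s) = pr D r s := by
  have hp := hG.root.simple_lt i i.2
  have hr' := hG.root.reflect_lt i i.2 r hr
  have hs' := hG.root.reflect_lt i i.2 s hs
  have e : ∀ u < D.nroots, vec D len (D.reflectRoot i u) =
      (1 : ℤ) • vec D len u + (-D.cartan i u) • vec D len (D.simple i) := fun u hu => by
    rw [hG.root.vec_reflect i i.2 u hu, one_smul, neg_smul, sub_eq_add_neg]
  rw [hG.pr_lin hr hp hr' (e r hr), hG.pr_lin' hs hp hs' hr (e s hs), hG.pr_lin' hs hp hs' hp (e s hs),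
    hG.pr_simple i, hG.pr_simple i, hG.root.cartan_self i i.2, hG.pr_symm hr hp, hG.pr_simple i]
  ring

theorem pr_act (w : List (Fin D.rank)) {r s : ℕ} (hr : r < D.nroots) (hs : s < D.nroots) :
    pr D (act D w r) (act D w s) = pr D r s := by
  induction w with
  | nil => rfl
  | cons i w ih => rw [act_cons, act_cons, hG.pr_reflect i (hG.root.act_lt w hr) (hG.root.act_lt w hs), ih]

/-- Two roots seen from a fundamental root. -/
theorem transport {r s : ℕ} (hr : r < D.nroots) (hs : s < D.nroots) :
    ∃ (w : List (Fin D.rank)) (i : Fin D.rank) (s₀ : ℕ), s₀ < D.nroots ∧ act D w (D.simple i) = r ∧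
      act D w s₀ = s ∧ D.cartan i s₀ = pr D r s := by
  obtain ⟨w, i, hw⟩ := hG.root.exists_act_simple hr
  refine ⟨w, i, act D w.reverse s, hG.root.act_lt _ hs, hw, hG.root.act_act_reverse w hs, ?_⟩
  conv_rhs => rw [← hw, ← hG.root.act_act_reverse w hs]
  rw [hG.pr_act w (hG.root.simple_lt i i.2) (hG.root.act_lt _ hs), hG.pr_simple i]

theorem row_at (i : Fin D.rank) {s : ℕ} (hs : s < D.nroots) (h1 : s ≠ D.simple i)
    (h2 : s ≠ D.neg (D.simple i)) :
    (D.cartan i s = -1 ∧ ∃ c : ℤ, (c = 1 ∨ c = -1) ∧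
        D.commTerms (D.simple i) s = [(D.reflectRoot i s, c, 1, 1)]) ∨
      ((D.cartan i s = 0 ∨ D.cartan i s = 1) ∧ D.commTerms (D.simple i) s = []) := by
  have h := hG.row
  simp only [rowB, List.all_eq_true, List.mem_range, Bool.or_eq_true, beq_iff_eq] at h
  rcases h i i.2 s hs with (h | h) | h
  · exact absurd h h1
  · exact absurd h h2
  split_ifs at h with hc
  · split at h
    · rename_i k c he
      simp only [Bool.and_eq_true, Bool.or_eq_true, beq_iff_eq] at h
      exact Or.inl ⟨hc, c, h.1, by rw [he, h.2]⟩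
    · simp at h
  · simp only [Bool.and_eq_true, Bool.or_eq_true, beq_iff_eq, List.isEmpty_iff] at h
    exact Or.inr h

theorem pr_self {r : ℕ} (hr : r < D.nroots) : pr D r r = 2 := by
  obtain ⟨w, i, hw⟩ := hG.root.exists_act_simple hr
  rw [← hw, hG.pr_act w (hG.root.simple_lt i i.2) (hG.root.simple_lt i i.2), hG.pr_simple i,
    hG.root.cartan_self i i.2]

theorem pr_neg {r : ℕ} (hr : r < D.nroots) (x : ℕ) : pr D (D.neg r) x = -pr D r x := by
  rw [hG.pr_eq (hG.root.neg_lt r hr), hG.pr_eq hr, hG.root.vec_neg r hr, map_neg]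

theorem pr_cases {r s : ℕ} (hr : r < D.nroots) (hs : s < D.nroots) (h1 : s ≠ r) (h2 : s ≠ D.neg r) :
    pr D r s = -1 ∨ pr D r s = 0 ∨ pr D r s = 1 := by
  obtain ⟨w, i, s₀, hs₀, e1, e2, e3⟩ := hG.transport hr hs
  rw [← e3]
  rcases hG.row_at i hs₀ (fun e => h1 (by rw [← e2, e, e1]))
    (fun e => h2 (by rw [← e2, e, hG.root.act_neg w (hG.root.simple_lt i i.2), e1])) with h | h
  · exact Or.inl h.1
  · exact Or.inr h.1

theorem pr_ne_two {r s : ℕ} (hr : r < D.nroots) (hs : s < D.nroots) (h : pr D r s = 2) : s = r := by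
  by_contra h1
  by_cases h2 : s = D.neg r
  · rw [h2, hG.pr_symm hr (hG.root.neg_lt r hr), hG.pr_neg hr, hG.pr_self hr] at h
    omega
  · rcases hG.pr_cases hr hs h1 h2 with e | e | e <;> omega

end Good

section Char2

variable {F : Type*} [Field F] [CharP F 2] (hS : Rules D F) (hG : Good D len)

/-- A root element in the general linear group. -/
noncomputable abbrev X (D : ChevalleyDatum) {F : Type*} [Field F] (r : ℕ) (t : F) : GL D.Idx F := xGL D F r t

omit [CharP F 2] in
include hS in
theorem X_mem {r : ℕ} (hr : r < D.nroots) (t : F) : X D r t ∈ D.group F := by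
  rw [group_eq hS]
  exact (glSys hS).x_mem_Gbar hr t

include hS in
theorem X_self {r : ℕ} (hr : r < D.nroots) (t : F) : X D r t * X D r t = 1 := by
  have h1 : X D r t * X D r t = X D r (t + t) := (glSys hS).x_add r hr t t
  rw [h1, CharTwo.add_self_eq_zero]
  exact (glSys hS).x_zero hr

omit [CharP F 2] in
include hS hG in
theorem nW_mem (w : List (Fin D.rank)) : (glSys hS).nW w ∈ D.group F := by
  refine list_prod_mem fun g hg => ?_
  obtain ⟨i, -, rfl⟩ := List.mem_map.1 hg
  have hp := hG.root.simple_lt i i.2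
  exact mul_mem (mul_mem (X_mem hS hp _) (X_mem hS (hG.root.neg_lt _ hp) _)) (X_mem hS hp _)

include hS hG in
/-- In characteristic two a Weyl element permutes the root elements without signs. -/
theorem nW_conj (w : List (Fin D.rank)) : ∀ s < D.nroots, ∀ t : F,
    (glSys hS).nW w * X D s t * ((glSys hS).nW w)⁻¹ = X D (act D w s) t := by
  induction w with
  | nil => intro s _ t; simp [Sys.nW_nil, act_nil]
  | cons i w ih =>
    intro s hs t
    have h1 := (glSys hS).conj_all hS hG.root i ((glSys hS).nEl_mem_rankOne i 1) (Or.inr rfl)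
      (fun u => (hS.eta i u : F)) (fun u hu v => (glSys hS).θ_nI_conj hS hG.root i hu v)
      (act D w s) (hG.root.act_lt w hs) t
    have e : (hS.eta i (act D w s) : F) = 1 := by
      rcases hS.eta_sq i (hG.root.act_lt w hs) with h | h <;> simp [h, CharTwo.neg_eq]
    rw [act_singleton, e, one_mul] at h1
    rw [Sys.nW_cons, act_cons,
      show (glSys hS).nI i * (glSys hS).nW w * X D s t * ((glSys hS).nI i * (glSys hS).nW w)⁻¹ =
        (glSys hS).nI i * ((glSys hS).nW w * X D s t * ((glSys hS).nW w)⁻¹) * ((glSys hS).nI i)⁻¹ by group,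
      ih s hs t]
    exact h1

include hS hG in
/-- The reflection in any root is induced by an element of the group. -/
theorem exists_refl {b : ℕ} (hb : b < D.nroots) :
    ∃ g ∈ D.group F, ∃ σ : ℕ → ℕ, ∀ s < D.nroots, σ s < D.nroots ∧
      vec D len (σ s) = (1 : ℤ) • vec D len s + (-pr D b s) • vec D len b ∧
      ∀ t : F, g * X D s t * g⁻¹ = X D (σ s) t := by
  obtain ⟨w, i, hw⟩ := hG.root.exists_act_simple hb
  refine ⟨(glSys hS).nW (w ++ [i] ++ w.reverse), nW_mem hS hG _, act D (w ++ [i] ++ w.reverse),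
    fun s hs => ⟨hG.root.act_lt _ hs, ?_, nW_conj hS hG _ s hs⟩⟩
  have h0 := hG.root.act_lt w.reverse hs
  have hp := hG.root.simple_lt i i.2
  rw [act_append, act_append, act_singleton]
  have e := hG.root.act_lin w h0 hp (hG.root.reflect_lt i i.2 _ h0) (a := 1) (b := -D.cartan i (act D w.reverse s))
    (by rw [hG.root.vec_reflect i i.2 _ h0, one_smul, neg_smul, sub_eq_add_neg])
  rw [e, hG.root.act_act_reverse w hs, hw]
  congr 2
  conv_rhs => rw [← hw, ← hG.root.act_act_reverse w hs, hG.pr_act w hp h0, hG.pr_simple i]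

include hS hG in
/-- The torus of a root scales by the pairing. -/
theorem exists_scale {r : ℕ} (hr : r < D.nroots) {c : F} (hc : c ≠ 0) :
    ∃ h ∈ D.group F, ∀ s < D.nroots, ∀ t : F, h * X D s t * h⁻¹ = X D s (c ^ pr D r s * t) := by
  obtain ⟨w, i, hw⟩ := hG.root.exists_act_simple hr
  have hp := hG.root.simple_lt i i.2
  refine ⟨(glSys hS).nW w * (glSys hS).hEl (D.simple i) c * ((glSys hS).nW w)⁻¹, ?_, fun s hs t => ?_⟩
  · refine mul_mem (mul_mem (nW_mem hS hG w) ?_) (inv_mem (nW_mem hS hG w))
    exact mul_mem (mul_mem (mul_mem (X_mem hS hp _) (X_mem hS (hG.root.neg_lt _ hp) _)) (X_mem hS hp _))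
      (mul_mem (mul_mem (X_mem hS hp _) (X_mem hS (hG.root.neg_lt _ hp) _)) (X_mem hS hp _))
  · have h0 := hG.root.act_lt w.reverse hs
    have e0 := hG.root.act_act_reverse w hs
    have hpr : pr D r s = D.cartan i (act D w.reverse s) := by
      rw [← hG.pr_simple i, ← hG.pr_act w hp h0, hw, e0]
    have e1 : ((glSys hS).nW w)⁻¹ * X D s t * (glSys hS).nW w = X D (act D w.reverse s) t := by
      have := nW_conj hS hG w _ h0 t
      rw [e0] at this
      rw [← this]
      group
    have e2 := nW_conj hS hG w _ h0 (c ^ D.cartan i (act D w.reverse s) * t)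
    rw [e0] at e2
    rw [hpr, ← e2, show (glSys hS).nW w * (glSys hS).hEl (D.simple i) c * ((glSys hS).nW w)⁻¹ * X D s t *
      ((glSys hS).nW w * (glSys hS).hEl (D.simple i) c * ((glSys hS).nW w)⁻¹)⁻¹ =
      (glSys hS).nW w * ((glSys hS).hEl (D.simple i) c * (((glSys hS).nW w)⁻¹ * X D s t * (glSys hS).nW w) *
        ((glSys hS).hEl (D.simple i) c)⁻¹) * ((glSys hS).nW w)⁻¹ by group, e1]
    congr 2
    exact (glSys hS).conjP_hI hS hG.root i hc _ h0 t

include hS hG in
/-- Roots with non-negative pairing give commuting root elements. -/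
theorem X_commute {r s : ℕ} (hr : r < D.nroots) (hs : s < D.nroots) (h : 0 ≤ pr D r s) (t u : F) :
    Commute (X D r t) (X D s u) := by
  by_cases h1 : s = r
  · rw [h1]
    show X D r t * X D r u = X D r u * X D r t
    have e1 : X D r t * X D r u = X D r (t + u) := (glSys hS).x_add r hr t u
    have e2 : X D r u * X D r t = X D r (u + t) := (glSys hS).x_add r hr u t
    rw [e1, e2, add_comm]
  have h2 : s ≠ D.neg r := fun e => by
    rw [e, hG.pr_symm hr (hG.root.neg_lt r hr), hG.pr_neg hr, hG.pr_self hr] at h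
    omega
  obtain ⟨w, i, s₀, hs₀, e1, e2, e3⟩ := hG.transport hr hs
  have hp := hG.root.simple_lt i i.2
  have k1 : s₀ ≠ D.simple i := fun e => h1 (by rw [← e2, e, e1])
  have k2 : s₀ ≠ D.neg (D.simple i) := fun e => h2 (by rw [← e2, e, hG.root.act_neg w hp, e1])
  rcases hG.row_at i hs₀ k1 k2 with ⟨hc, -⟩ | ⟨-, hc⟩
  · omega
  have hcomm : Commute (X D (D.simple i) t) (X D s₀ u) := by
    have := (glSys hS).comm _ hp _ hs₀ k1 k2 t u
    simp only [ChevalleyDatum.commWord, hc, List.map_nil, List.prod_nil, mul_one] at this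
    exact this.symm
  have := hcomm.map (MulAut.conj ((glSys hS).nW w)).toMonoidHom
  simpa [nW_conj hS hG w _ hp, nW_conj hS hG w _ hs₀, e1, e2] using this

include hS hG in
/-- The commutator of two roots with pairing `-1`. -/
theorem exists_sum {r s : ℕ} (hr : r < D.nroots) (hs : s < D.nroots) (h : pr D r s = -1) :
    ∃ k < D.nroots, vec D len k = (1 : ℤ) • vec D len r + (1 : ℤ) • vec D len s ∧
      ∀ t u : F, X D s u * X D r t = X D r t * X D s u * X D k (t * u) := by
  obtain ⟨w, i, s₀, hs₀, e1, e2, e3⟩ := hG.transport hr hs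
  have hp := hG.root.simple_lt i i.2
  have k1 : s₀ ≠ D.simple i := fun e => by
    rw [e, hG.root.cartan_self i i.2] at e3
    omega
  have k2 : s₀ ≠ D.neg (D.simple i) := fun e => by
    rw [e, hG.root.cartan_neg i.2 hp, hG.root.cartan_self i i.2] at e3
    omega
  rcases hG.row_at i hs₀ k1 k2 with ⟨hc, c, hc1, hT⟩ | ⟨hc, -⟩
  swap
  · omega
  have hk := hG.root.reflect_lt i i.2 s₀ hs₀
  refine ⟨act D w (D.reflectRoot i s₀), hG.root.act_lt w hk, ?_, fun t u => ?_⟩
  · have := hG.root.act_lin w hp hs₀ hk (a := 1) (b := 1)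
      (by rw [hG.root.vec_reflect i i.2 _ hs₀, hc, one_smul, one_smul, neg_smul, one_smul, sub_neg_eq_add,
        add_comm])
    rwa [e1, e2] at this
  have hcomm : X D s₀ u * X D (D.simple i) t =
      X D (D.simple i) t * X D s₀ u * X D (D.reflectRoot i s₀) (t * u) := by
    have := (glSys hS).comm _ hp _ hs₀ k1 k2 t u
    rcases hc1 with rfl | rfl <;>
      simpa [ChevalleyDatum.commWord, hT, CharTwo.neg_eq, glSys] using this
  have := congrArg (MulAut.conj ((glSys hS).nW w)) hcomm
  simp only [map_mul, MulAut.conj_apply] at this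
  rwa [nW_conj hS hG w _ hp, nW_conj hS hG w _ hs₀, nW_conj hS hG w _ hk, e1, e2] at this

end Char2

end Cfsg.Agent.EInvol
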