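import Cfsg.Agent.ChevGrp.Roots

/-!
# Pairing of roots in a simply-laced datum and packed tables for it
-/

set_option autoImplicit false

namespace Cfsg.Agent.EInvol

open Cfsg.Lie Cfsg.Agent.ChevGrp

variable (D : ChevalleyDatum)

/-- The coefficient of a root at a fundamental root. -/
def cf (r : ℕ) (j : Fin D.rank) : ℤ := (D.coroot.getD r #[]).getD j.val 0

/-- The pairing of two roots. -/
def pr (r a : ℕ) : ℤ := ∑ j : Fin D.rank, cf D r j * D.cartan j a

/-- The height. -/
def htz (r : ℕ) : ℤ := ∑ j : Fin D.rank, cf D r j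

/-- The positive roots orthogonal to a list of roots. -/
def psiP (S : List ℕ) : Set ℕ := {r | D.IsPosRoot r ∧ ∀ s ∈ S, pr D r s = 0}

/-- Packed coefficients and Cartan integers, four bits each. -/
structure Tab where
  cTab : ℕ
  gTab : ℕ

variable {D}

/-- A digit. -/
def dig (n k : ℕ) : ℕ := (n >>> (4 * k)) % 16

variable (D) in
/-- The packed coefficient. -/
def Tab.c (T : Tab) (r : ℕ) (j : Fin D.rank) : ℤ := (dig T.cTab (D.rank * r + j.val) : ℤ) - 8

variable (D) in
/-- The packed Cartan integer. -/
def Tab.g (T : Tab) (r : ℕ) (j : Fin D.rank) : ℤ := (dig T.gTab (D.rank * r + j.val) : ℤ) - 2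

variable (D) in
/-- The pairing, from the packed tables. -/
def Tab.pr (T : Tab) (r a : ℕ) : ℤ :=
  ((List.finRange D.rank).map fun j => T.c D r j * T.g D a j).sum

variable (D) in
/-- The height, from the packed tables. -/
def Tab.ht (T : Tab) (r : ℕ) : ℤ := ((List.finRange D.rank).map fun j => T.c D r j).sum

variable (D) in
/-- Positivity, from the packed tables. -/
def Tab.isPos (T : Tab) (r : ℕ) : Bool := (List.finRange D.rank).all fun j => decide (0 ≤ T.c D r j)

variable (D) in
/-- The packed tables agree with the datum. -/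
def tabB (T : Tab) : Bool :=
  (List.range D.nroots).all fun r => (D.coroot.getD r #[]).size == D.rank &&
    (List.finRange D.rank).all fun j => T.c D r j == cf D r j && T.g D r j == D.cartan j r

variable (D) in
/-- `k` is the image of `s` under the reflection in `b`. -/
def Tab.isRefl (T : Tab) (b s k : ℕ) : Bool :=
  decide (k < D.nroots) &&
    let p := T.pr D b s
    (List.finRange D.rank).all fun j => T.c D k j == T.c D s j - p * T.c D b j

theorem Tab.c_eq {T : Tab} (h : tabB D T = true) {r : ℕ} (hr : r < D.nroots) (j : Fin D.rank) :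
    T.c D r j = cf D r j := by
  simp only [tabB, List.all_eq_true, Bool.and_eq_true, List.mem_range, beq_iff_eq] at h
  exact ((h r hr).2 j (List.mem_finRange j)).1

theorem Tab.g_eq {T : Tab} (h : tabB D T = true) {r : ℕ} (hr : r < D.nroots) (j : Fin D.rank) :
    T.g D r j = D.cartan j r := by
  simp only [tabB, List.all_eq_true, Bool.and_eq_true, List.mem_range, beq_iff_eq] at h
  exact ((h r hr).2 j (List.mem_finRange j)).2

theorem Tab.pr_eq {T : Tab} (h : tabB D T = true) {r a : ℕ} (hr : r < D.nroots) (ha : a < D.nroots) :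
    T.pr D r a = EInvol.pr D r a := by
  rw [Tab.pr, EInvol.pr, Fin.sum_univ_def]
  exact congrArg List.sum (List.map_congr_left fun j _ => by rw [T.c_eq h hr, T.g_eq h ha])

theorem Tab.ht_eq {T : Tab} (h : tabB D T = true) {r : ℕ} (hr : r < D.nroots) :
    T.ht D r = htz D r := by
  rw [Tab.ht, htz, Fin.sum_univ_def]
  exact congrArg List.sum (List.map_congr_left fun j _ => T.c_eq h hr j)

theorem Tab.isPos_iff {T : Tab} (h : tabB D T = true) {r : ℕ} (hr : r < D.nroots) :
    T.isPos D r = true ↔ D.IsPosRoot r := by
  have hsz : (D.coroot.getD r #[]).size = D.rank := by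
    simp only [tabB, List.all_eq_true, Bool.and_eq_true, List.mem_range, beq_iff_eq] at h
    exact (h r hr).1
  simp only [Tab.isPos, List.all_eq_true, decide_eq_true_eq, List.mem_finRange, true_implies,
    T.c_eq h hr, ChevalleyDatum.IsPosRoot]
  simp only [cf]
  generalize hA : D.coroot.getD r #[] = A at hsz ⊢
  constructor
  · intro hj
    refine ⟨hr, fun c hc => ?_⟩
    obtain ⟨i, hi, rfl⟩ := List.getElem_of_mem hc
    rw [Array.length_toList] at hi
    have := hj ⟨i, by rw [← hsz]; exact hi⟩
    simpa [Array.getD, hi] using this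
  · intro hp j
    have hj : j.val < A.size := by rw [hsz]; exact j.2
    have h1 := hp.2 A[j.val] (by simp)
    simpa [Array.getD, hj] using h1

end Cfsg.Agent.EInvol
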