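import Cfsg.Agent.EInvol.Descend

/-!
# Certificates: the tree of subsystems and the reduction of products of orthogonal root elements
-/

set_option autoImplicit false

namespace Cfsg.Agent.EInvol

open Cfsg.Lie Cfsg.Agent.ChevGrp
open scoped MatrixGroups

/-- One step in reducing a product of root elements of parameter one. -/
inductive Op where
  /-- conjugate by the Weyl element of `b`; the images are listed -/
  | refl (b : ℕ) (L' : List ℕ)
  /-- conjugate by `x_r(1)`; the new roots are listed in order -/
  | conj (r : ℕ) (ks : List ℕ)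
  /-- exchange two commuting neighbours -/
  | swap (i : ℕ)
  /-- exchange two neighbours whose sum is the root `k` -/
  | swapSum (i k : ℕ)
  /-- delete two equal neighbours -/
  | cancel (i : ℕ)

/-- An edge of the tree. -/
structure Edge where
  a : ℕ
  child : ℕ
  path : List (ℕ × List ℕ)

/-- A node of the tree. -/
structure Node where
  roots : List ℕ
  psi : List ℕ
  edges : List Edge
  ops : List Op
  /-- the final product: a representative, or an earlier node -/
  final : ℕ ⊕ ℕ

variable (D : ChevalleyDatum) (T : Tab)

/-- `k` is the sum of `r` and `s`, which pair to `-1`. -/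
def isSum (r s k : ℕ) : Bool :=
  decide (k < D.nroots) && T.pr D r s == -1 &&
    (List.finRange D.rank).all fun j => T.c D k j == T.c D r j + T.c D s j

/-- The images under conjugation by `x_r(1)`. -/
def conjRun (r : ℕ) : List ℕ → List ℕ → Option (List ℕ)
  | [], [] => some []
  | [], _ :: _ => none
  | s :: L, ks =>
    if s < D.nroots then
      if T.pr D r s = -1 then
        match ks with
        | k :: ks' => if isSum D T r s k then (conjRun r L ks').map fun M => s :: k :: M else none
        | [] => none
      else if 0 ≤ T.pr D r s then (conjRun r L ks).map fun M => s :: M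
      else none
    else none

/-- Aligned images under a reflection. -/
def reflAll (b : ℕ) : List ℕ → List ℕ → Bool
  | [], [] => true
  | s :: L, k :: L' => decide (s < D.nroots) && T.isRefl D b s k && reflAll b L L'
  | _, _ => false

/-- Exchange at a position. -/
def swapAt : ℕ → List ℕ → Option (List ℕ)
  | 0, s :: r :: L => if s < D.nroots && r < D.nroots && decide (0 ≤ T.pr D s r) then some (r :: s :: L) else none
  | i + 1, s :: L => (swapAt i L).map fun M => s :: M
  | _, _ => none

/-- Exchange with a commutator at a position. -/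
def swapSumAt (k : ℕ) : ℕ → List ℕ → Option (List ℕ)
  | 0, s :: r :: L => if s < D.nroots && r < D.nroots && isSum D T r s k then some (r :: s :: k :: L) else none
  | i + 1, s :: L => (swapSumAt k i L).map fun M => s :: M
  | _, _ => none

/-- Deletion at a position. -/
def cancelAt : ℕ → List ℕ → Option (List ℕ)
  | 0, s :: r :: L => if s < D.nroots && s == r then some L else none
  | i + 1, s :: L => (cancelAt i L).map fun M => s :: M
  | _, _ => none

/-- One step. -/
def Op.run : Op → List ℕ → Option (List ℕ)
  | .refl b L', L => if decide (b < D.nroots) && reflAll D T b L L' then some L' else none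
  | .conj r ks, L => if r < D.nroots then conjRun D T r L ks else none
  | .swap i, L => swapAt D T i L
  | .swapSum i k, L => swapSumAt D T k i L
  | .cancel i, L => cancelAt D i L

/-- A sequence of steps. -/
def runOps : List Op → List ℕ → Option (List ℕ)
  | [], L => some L
  | o :: os, L => (o.run D T L).bind (runOps os)

/-- A sequence of reflections. -/
def runPath : List (ℕ × List ℕ) → List ℕ → Option (List ℕ)
  | [], L => some L
  | p :: ps, L => if decide (p.1 < D.nroots) && reflAll D T p.1 L p.2 then runPath ps p.2 else none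

variable (R : List (List ℕ)) (Ns : List Node)

/-- The default node. -/
def nodeAt (i : ℕ) : Node := Ns.getD i ⟨[], [], [], [], Sum.inl 0⟩

/-- The check of one edge. -/
def edgeB (i : ℕ) (e : Edge) : Bool :=
  let N := nodeAt Ns i
  let M := nodeAt Ns e.child
  decide (i < e.child) && decide (e.child < Ns.length) && N.psi.contains e.a &&
    (N.psi.all fun r => r == e.a || decide (0 < 2 * T.ht D r - T.ht D e.a * T.pr D r e.a)) &&
    match runPath D T e.path ((N.roots ++ [e.a]) ++ N.psi.filter fun r => T.pr D r e.a == 0) with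
    | some L => (L.take (N.roots.length + 1)).isPerm M.roots &&
        (L.drop (N.roots.length + 1)).all fun r => M.psi.contains r
    | none => false

/-- The check of one node. -/
def nodeB (i : ℕ) : Bool :=
  let N := nodeAt Ns i
  (N.roots.all fun s => decide (s < D.nroots) && N.roots.all fun r => r == s || T.pr D s r == 0) &&
    ((List.range D.nroots).all fun r =>
      N.psi.contains r == (T.isPos D r && N.roots.all fun s => T.pr D r s == 0)) &&
    (N.psi.all fun r => decide (r < D.nroots)) &&
    (N.psi.all fun r => (N.edges.map Edge.a).contains r || N.edges.any fun e => T.pr D e.a r == 1) &&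
    (N.edges.all fun e => edgeB D T Ns i e) &&
    (N.roots.isEmpty ||
      match runOps D T N.ops N.roots, N.final with
      | some L, Sum.inl j => decide (j < R.length) && L == R.getD j []
      | some L, Sum.inr j => decide (j < i) && L == (nodeAt Ns j).roots
      | none, _ => false)

/-- The check of the tree. -/
def treeB : Bool :=
  decide (0 < Ns.length) && (nodeAt Ns 0).roots.isEmpty && (List.range Ns.length).all fun i => nodeB D T R Ns i

section Forall2

variable {α β : Type*}

theorem forall₂_right {P : β → Prop} {Q : α → β → Prop} {L : List α} {L' : List β}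
    (h : List.Forall₂ (fun a b => P b ∧ Q a b) L L') : ∀ b ∈ L', P b := by
  induction h with
  | nil => simp
  | cons hab _ ih => exact List.forall_mem_cons.2 ⟨hab.1, ih⟩

theorem forall₂_image {R' : α → β → Prop} {L : List α} {L' : List β}
    (h : List.Forall₂ R' L L') {a : α} (ha : a ∈ L) : ∃ b ∈ L', R' a b := by
  induction h with
  | nil => simp at ha
  | cons hab _ ih =>
    rcases List.mem_cons.1 ha with rfl | ha
    · exact ⟨_, List.mem_cons_self, hab⟩
    · obtain ⟨b, hb, h⟩ := ih ha
      exact ⟨b, List.mem_cons_of_mem _ hb, h⟩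

theorem forall₂_comp {F : Type*} [Field F] {D : ChevalleyDatum} {g g' : GL D.Idx F} {L L' L'' : List ℕ}
    (h : List.Forall₂ (fun r r' => r' < D.nroots ∧ ∀ t : F, g * X D r t * g⁻¹ = X D r' t) L L')
    (h' : List.Forall₂ (fun r r' => r' < D.nroots ∧ ∀ t : F, g' * X D r t * g'⁻¹ = X D r' t) L' L'') :
    List.Forall₂ (fun r r' => r' < D.nroots ∧ ∀ t : F, g' * g * X D r t * (g' * g)⁻¹ = X D r' t) L L'' := by
  induction h generalizing L'' with
  | nil => cases h'; exact List.Forall₂.nil
  | cons hab _ ih =>
    cases h' with
    | cons hbc hrest =>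
      refine List.Forall₂.cons ⟨hbc.1, fun t => ?_⟩ (ih hrest)
      rw [← hbc.2 t, ← hab.2 t]
      group

end Forall2

section Sound

variable {D T} {len : ℕ → ℕ} {F : Type*} [Field F] [CharP F 2] (hS : Rules D F) (hG : Good D len)
  (hT : tabB D T = true)

include hT

omit [CharP F 2] in
theorem Tab.vec_refl (hG : Good D len) {b s k : ℕ} (hb : b < D.nroots) (hs : s < D.nroots)
    (h : T.isRefl D b s k = true) :
    k < D.nroots ∧ vec D len k = (1 : ℤ) • vec D len s + (-EInvol.pr D b s) • vec D len b := by
  simp only [Tab.isRefl, Bool.and_eq_true, decide_eq_true_eq, List.all_eq_true, beq_iff_eq,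
    List.mem_finRange, true_implies] at h
  refine ⟨h.1, funext fun j => ?_⟩
  have := h.2 j
  rw [Tab.c_eq hT h.1, Tab.c_eq hT hs, Tab.c_eq hT hb, Tab.pr_eq hT hb hs] at this
  simp [hG.vec_apply h.1, hG.vec_apply hs, hG.vec_apply hb, this, sub_eq_add_neg]

include hS hG in
theorem reflAll_sound {b : ℕ} (hb : b < D.nroots) :
    ∃ g ∈ D.group F, ∀ L L' : List ℕ, reflAll D T b L L' = true →
      List.Forall₂ (fun r r' => r' < D.nroots ∧ ∀ t : F, g * X D r t * g⁻¹ = X D r' t) L L' := by
  obtain ⟨g, hg, σ, hσ⟩ := exists_refl (F := F) hS hG hb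
  refine ⟨g, hg, fun L => ?_⟩
  induction L with
  | nil =>
    intro L' h
    cases L' with
    | nil => exact List.Forall₂.nil
    | cons k L' => simp [reflAll] at h
  | cons s L ih =>
    intro L' h
    cases L' with
    | nil => simp [reflAll] at h
    | cons k L' =>
      simp only [reflAll, Bool.and_eq_true, decide_eq_true_eq] at h
      obtain ⟨⟨hs, hk⟩, hrest⟩ := h
      obtain ⟨hklt, hkv⟩ := Tab.vec_refl hT hG hb hs hk
      have e : σ s = k := hG.root.vec_inj _ (hσ s hs).1 _ hklt (by rw [(hσ s hs).2.1, hkv])
      exact List.Forall₂.cons ⟨hklt, fun t => e ▸ (hσ s hs).2.2 t⟩ (ih L' hrest)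

include hS hG in
theorem runPath_sound : ∀ (ps : List (ℕ × List ℕ)) (L L' : List ℕ), (∀ r ∈ L, r < D.nroots) →
    runPath D T ps L = some L' →
    ∃ g ∈ D.group F, List.Forall₂ (fun r r' => r' < D.nroots ∧ ∀ t : F, g * X D r t * g⁻¹ = X D r' t) L L' := by
  intro ps
  induction ps with
  | nil =>
    intro L L' hL h
    simp only [runPath, Option.some.injEq] at h
    subst h
    exact ⟨1, one_mem _, List.forall₂_same.2 fun r hr => ⟨hL r hr, fun t => by simp⟩⟩
  | cons p ps ih =>
    intro L L' hL h
    simp only [runPath] at h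
    split_ifs at h with hc
    simp only [Bool.and_eq_true, decide_eq_true_eq] at hc
    obtain ⟨g, hg, hf⟩ := reflAll_sound (F := F) hS hG hT hc.1
    have h1 := hf L p.2 hc.2
    obtain ⟨g', hg', h2⟩ := ih p.2 L' (forall₂_right h1) h
    exact ⟨g' * g, mul_mem hg' hg, forall₂_comp h1 h2⟩

theorem prod_of_forall₂ {g : GL D.Idx F} {L L' : List ℕ}
    (h : List.Forall₂ (fun r r' => r' < D.nroots ∧ ∀ t : F, g * X D r t * g⁻¹ = X D r' t) L L') :
    g * xS D F L * g⁻¹ = xS D F L' := by
  clear hT
  induction h with
  | nil => simp [xS]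
  | cons hab _ ih =>
    simp only [xS, List.map_cons, List.prod_cons] at ih ⊢
    rw [← ih, ← hab.2 1]
    group

include hS hG in
theorem conjRun_sound {r : ℕ} (hr : r < D.nroots) : ∀ (L ks L' : List ℕ), conjRun D T r L ks = some L' →
    X D r (1 : F) * xS D F L * (X D r (1 : F))⁻¹ = xS D F L' := by
  intro L
  induction L with
  | nil =>
    intro ks L' h
    cases ks with
    | nil =>
      simp only [conjRun, Option.some.injEq] at h
      subst h
      simp [xS]
    | cons k ks => simp [conjRun] at h
  | cons s L ih =>
    intro ks L' h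
    unfold conjRun at h
    split_ifs at h with hs hp hp'
    · cases ks with
      | nil => simp at h
      | cons k ks =>
        simp only at h
        split_ifs at h with hk
        obtain ⟨M, hM, rfl⟩ := Option.map_eq_some_iff.1 h
        simp only [isSum, Bool.and_eq_true, decide_eq_true_eq, beq_iff_eq, List.all_eq_true,
          List.mem_finRange, true_implies] at hk
        obtain ⟨⟨hklt, -⟩, hkc⟩ := hk
        rw [Tab.pr_eq hT hr hs] at hp
        obtain ⟨c, hc, hcv, hrel⟩ := exists_sum (F := F) hS hG hr hs hp
        have e : c = k := hG.root.vec_inj _ hc _ hklt (by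
          rw [hcv]
          funext j
          have := hkc j
          rw [Tab.c_eq hT hklt, Tab.c_eq hT hr, Tab.c_eq hT hs] at this
          simp [hG.vec_apply hklt, hG.vec_apply hr, hG.vec_apply hs, this])
        subst e
        have e1 : X D r (1 : F) * X D s 1 * (X D r (1 : F))⁻¹ = X D s 1 * X D c 1 := by
          rw [inv_eq_of_mul_eq_one_right (X_self hS hr 1), mul_assoc, hrel 1 1, ← mul_assoc, ← mul_assoc,
            X_self hS hr, one_mul, one_mul]
        simp only [xS, List.map_cons, List.prod_cons]
        have := ih ks M hM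
        simp only [xS] at this
        rw [← this, ← mul_assoc (X D s (1 : F)) (X D c 1), ← e1]
        group
    · obtain ⟨M, hM, rfl⟩ := Option.map_eq_some_iff.1 h
      rw [Tab.pr_eq hT hr hs] at hp'
      have hc := X_commute (F := F) hS hG hr hs hp' 1 1
      have := ih ks M hM
      simp only [xS, List.map_cons, List.prod_cons] at this ⊢
      rw [← this, ← mul_assoc, hc.eq]
      group

include hS hG in
theorem swapAt_sound : ∀ (i : ℕ) (L L' : List ℕ), swapAt D T i L = some L' → xS D F L = xS D F L' := by
  intro i
  induction i with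
  | zero =>
    intro L L' h
    match L, h with
    | [], h => simp [swapAt] at h
    | [_], h => simp [swapAt] at h
    | s :: r :: L, h =>
      simp only [swapAt] at h
      split_ifs at h with hc
      simp only [Bool.and_eq_true, decide_eq_true_eq] at hc
      simp only [Option.some.injEq] at h
      subst h
      have := X_commute (F := F) hS hG hc.1.1 hc.1.2 (Tab.pr_eq hT hc.1.1 hc.1.2 ▸ hc.2) 1 1
      simp only [xS, List.map_cons, List.prod_cons, ← mul_assoc, this.eq]
  | succ i ih =>
    intro L L' h
    match L, h with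
    | [], h => simp [swapAt] at h
    | s :: L, h =>
      simp only [swapAt] at h
      obtain ⟨M, hM, rfl⟩ := Option.map_eq_some_iff.1 h
      have := ih L M hM
      simp only [xS, List.map_cons, List.prod_cons] at this ⊢
      rw [this]

include hS hG in
theorem swapSumAt_sound (k : ℕ) :
    ∀ (i : ℕ) (L L' : List ℕ), swapSumAt D T k i L = some L' → xS D F L = xS D F L' := by
  intro i
  induction i with
  | zero =>
    intro L L' h
    match L, h with
    | [], h => simp [swapSumAt] at h
    | [_], h => simp [swapSumAt] at h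
    | s :: r :: L, h =>
      simp only [swapSumAt] at h
      split_ifs at h with hc
      simp only [Bool.and_eq_true, decide_eq_true_eq, isSum, beq_iff_eq, List.all_eq_true,
        List.mem_finRange, true_implies] at hc
      obtain ⟨⟨hs, hr⟩, ⟨hklt, hp⟩, hkc⟩ := hc
      simp only [Option.some.injEq] at h
      subst h
      rw [Tab.pr_eq hT hr hs] at hp
      obtain ⟨c, hc, hcv, hrel⟩ := exists_sum (F := F) hS hG hr hs hp
      have e : c = k := hG.root.vec_inj _ hc _ hklt (by
        rw [hcv]
        funext j
        have := hkc j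
        rw [Tab.c_eq hT hklt, Tab.c_eq hT hr, Tab.c_eq hT hs] at this
        simp [hG.vec_apply hklt, hG.vec_apply hr, hG.vec_apply hs, this])
      subst e
      have := hrel (1 : F) 1
      rw [one_mul] at this
      simp only [xS, List.map_cons, List.prod_cons, ← mul_assoc, this]
  | succ i ih =>
    intro L L' h
    match L, h with
    | [], h => simp [swapSumAt] at h
    | s :: L, h =>
      simp only [swapSumAt] at h
      obtain ⟨M, hM, rfl⟩ := Option.map_eq_some_iff.1 h
      have := ih L M hM
      simp only [xS, List.map_cons, List.prod_cons] at this ⊢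
      rw [this]

omit hT in
include hS in
theorem cancelAt_sound : ∀ (i : ℕ) (L L' : List ℕ), cancelAt D i L = some L' → xS D F L = xS D F L' := by
  intro i
  induction i with
  | zero =>
    intro L L' h
    match L, h with
    | [], h => simp [cancelAt] at h
    | [_], h => simp [cancelAt] at h
    | s :: r :: L, h =>
      simp only [cancelAt] at h
      split_ifs at h with hc
      simp only [Bool.and_eq_true, decide_eq_true_eq, beq_iff_eq] at hc
      simp only [Option.some.injEq] at h
      subst h
      obtain ⟨hs, rfl⟩ := hc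
      simp only [xS, List.map_cons, List.prod_cons, ← mul_assoc, X_self hS hs, one_mul]
  | succ i ih =>
    intro L L' h
    match L, h with
    | [], h => simp [cancelAt] at h
    | s :: L, h =>
      simp only [cancelAt] at h
      obtain ⟨M, hM, rfl⟩ := Option.map_eq_some_iff.1 h
      have := ih L M hM
      simp only [xS, List.map_cons, List.prod_cons] at this ⊢
      rw [this]

include hS hG in
theorem runOps_sound : ∀ (os : List Op) (L L' : List ℕ), runOps D T os L = some L' →
    ∃ g ∈ D.group F, g * xS D F L * g⁻¹ = xS D F L' := by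
  intro os
  induction os with
  | nil =>
    intro L L' h
    simp only [runOps, Option.some.injEq] at h
    exact ⟨1, one_mem _, by simp [h]⟩
  | cons o os ih =>
    intro L L' h
    simp only [runOps, Option.bind_eq_some_iff] at h
    obtain ⟨M, hM, h⟩ := h
    obtain ⟨g, hg, e⟩ := ih M L' h
    have : ∃ k ∈ D.group F, k * xS D F L * k⁻¹ = xS D F M := by
      cases o with
      | refl b L₁ =>
        simp only [Op.run] at hM
        split_ifs at hM with hc
        simp only [Bool.and_eq_true, decide_eq_true_eq] at hc
        simp only [Option.some.injEq] at hM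
        subst hM
        obtain ⟨k, hk, hf⟩ := reflAll_sound (F := F) hS hG hT hc.1
        exact ⟨k, hk, prod_of_forall₂ hT (hf L L₁ hc.2)⟩
      | conj r ks =>
        simp only [Op.run] at hM
        split_ifs at hM with hr
        exact ⟨X D r 1, X_mem hS hr 1, conjRun_sound hS hG hT hr L ks M hM⟩
      | swap i => exact ⟨1, one_mem _, by simp [swapAt_sound (F := F) hS hG hT i L M hM]⟩
      | swapSum i k => exact ⟨1, one_mem _, by simp [swapSumAt_sound (F := F) hS hG hT k i L M hM]⟩
      | cancel i => exact ⟨1, one_mem _, by simp [cancelAt_sound (F := F) hS i L M hM]⟩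
    obtain ⟨k, hk, e'⟩ := this
    refine ⟨g * k, mul_mem hg hk, ?_⟩
    rw [← e, ← e']
    group

variable {R Ns}

variable (htree : treeB D T R Ns = true)

include htree

omit [CharP F 2] in
theorem node_facts {i : ℕ} (hi : i < Ns.length) :
    (∀ s ∈ (nodeAt Ns i).roots, s < D.nroots ∧ ∀ r ∈ (nodeAt Ns i).roots, r = s ∨ pr D s r = 0) ∧
    (∀ r, r ∈ (nodeAt Ns i).psi ↔ r ∈ psiP D (nodeAt Ns i).roots) ∧
    (∀ r ∈ (nodeAt Ns i).psi, r ∈ (nodeAt Ns i).edges.map Edge.a ∨
      ∃ e ∈ (nodeAt Ns i).edges, T.pr D e.a r = 1) ∧
    (∀ e ∈ (nodeAt Ns i).edges, edgeB D T Ns i e = true) ∧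
    ((nodeAt Ns i).roots = [] ∨ ∃ L, runOps D T (nodeAt Ns i).ops (nodeAt Ns i).roots = some L ∧
      ((∃ j, j < R.length ∧ L = R.getD j []) ∨ ∃ j < i, L = (nodeAt Ns j).roots)) := by
  simp only [treeB, Bool.and_eq_true, List.all_eq_true, List.mem_range] at htree
  have h := htree.2 i hi
  simp only [nodeB, Bool.and_eq_true, List.all_eq_true, List.mem_range, beq_iff_eq, Bool.or_eq_true,
    decide_eq_true_eq, List.any_eq_true, List.contains_iff_mem, List.isEmpty_iff] at h
  obtain ⟨⟨⟨⟨⟨h1, h2⟩, h3⟩, h4⟩, h5⟩, h6⟩ := h
  have hlt : ∀ s ∈ (nodeAt Ns i).roots, s < D.nroots := fun s hs => (h1 s hs).1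
  refine ⟨fun s hs => ⟨hlt s hs, fun r hr => ((h1 s hs).2 r hr).imp_right fun e => ?_⟩, fun r => ?_, h4, h5, ?_⟩
  · rwa [Tab.pr_eq hT (hlt s hs) (hlt r hr)] at e
  · constructor
    · intro hr
      have hrl := h3 r hr
      have e := h2 r hrl
      rw [List.contains_iff_mem.2 hr, eq_comm, Bool.and_eq_true, Tab.isPos_iff hT hrl, List.all_eq_true] at e
      refine ⟨e.1, fun s hs => ?_⟩
      have := e.2 s hs
      rw [beq_iff_eq, Tab.pr_eq hT hrl (hlt s hs)] at this
      exact this
    · rintro ⟨hp, ho⟩
      refine List.contains_iff_mem.1 ?_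
      rw [h2 r hp.1, Bool.and_eq_true, Tab.isPos_iff hT hp.1, List.all_eq_true]
      exact ⟨hp, fun s hs => by rw [beq_iff_eq, Tab.pr_eq hT hp.1 (hlt s hs)]; exact ho s hs⟩
  · rcases h6 with h6 | h6
    · exact Or.inl h6
    right
    revert h6
    rcases runOps D T (nodeAt Ns i).ops (nodeAt Ns i).roots with _ | L
    · simp
    rcases (nodeAt Ns i).final with j | j <;>
      simp only [Bool.and_eq_true, decide_eq_true_eq, beq_iff_eq] <;> intro h
    · exact ⟨L, rfl, Or.inl ⟨j, h.1, h.2⟩⟩
    · exact ⟨L, rfl, Or.inr ⟨j, h.1, h.2⟩⟩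

include hS hG in
theorem reach_node : ∀ i < Ns.length, Reach D F R (xS D F (nodeAt Ns i).roots) := by
  intro i
  induction i using Nat.strong_induction_on with
  | _ i ih =>
    intro hi
    rcases (node_facts hT htree hi).2.2.2.2 with h | ⟨L, hL, h⟩
    · exact Or.inl (by rw [h]; rfl)
    obtain ⟨g, hg, e⟩ := runOps_sound (F := F) hS hG hT _ _ _ hL
    refine Reach.of_conj hg e ?_
    rcases h with ⟨j, hj, rfl⟩ | ⟨j, hj, rfl⟩
    · refine Or.inr ⟨1, one_mem _, R.getD j [], ?_, by simp⟩
      rw [List.getD_eq_getElem _ _ hj]
      exact List.getElem_mem hj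
    · exact ih j hj (hj.trans hi)

variable [Fintype F]

include hS hG in
theorem goal_node : ∀ i < Ns.length, GoalAt hS R (nodeAt Ns i).roots := by
  suffices H : ∀ m i, i < Ns.length → Ns.length - i ≤ m → GoalAt hS R (nodeAt Ns i).roots from
    fun i hi => H _ i hi le_rfl
  intro m
  induction m with
  | zero => intro i hi h; omega
  | succ m ih =>
    intro i hi hm
    obtain ⟨hroots, hpsi, hdesc, hedge, -⟩ := node_facts hT htree hi
    set N := nodeAt Ns i
    have hlt : ∀ s ∈ N.roots, s < D.nroots := fun s hs => (hroots s hs).1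
    have hsim : Simples (D := D) N.roots (N.edges.map Edge.a) := by
      constructor
      · intro a ha
        obtain ⟨e, he, rfl⟩ := List.mem_map.1 ha
        have h := hedge e he
        simp only [edgeB, Bool.and_eq_true, List.all_eq_true, Bool.or_eq_true, beq_iff_eq,
          decide_eq_true_eq, List.contains_iff_mem] at h
        have hamem := (hpsi e.a).1 h.1.1.2
        refine ⟨hamem, fun r hr hne => ?_⟩
        have := (h.1.2 r ((hpsi r).2 hr)).resolve_left hne
        rwa [Tab.ht_eq hT hr.1.1, Tab.ht_eq hT hamem.1.1, Tab.pr_eq hT hr.1.1 hamem.1.1] at this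
      · intro r hr hns
        obtain ⟨e, he, hp⟩ := (hdesc r ((hpsi r).2 hr)).resolve_left hns
        have h := hedge e he
        simp only [edgeB, Bool.and_eq_true, List.contains_iff_mem] at h
        refine ⟨e.a, List.mem_map_of_mem he, ?_⟩
        rwa [Tab.pr_eq hT ((hpsi e.a).1 h.1.1.2).1.1 hr.1.1] at hp
    refine goal_of_children hS hG hlt hsim (reach_node hS hG hT htree i hi) fun a ha => ?_
    obtain ⟨e, he, rfl⟩ := List.mem_map.1 ha
    have h := hedge e he
    simp only [edgeB, Bool.and_eq_true, decide_eq_true_eq, List.contains_iff_mem] at h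
    obtain ⟨⟨⟨⟨hij, hjl⟩, hamem⟩, -⟩, hpath⟩ := h
    set Ψc := N.psi.filter fun r => T.pr D r e.a == 0 with hΨc
    split at hpath
    swap
    · simp at hpath
    rename_i L hL
    have hal := ((hpsi e.a).1 hamem).1.1
    have hlt' : ∀ r ∈ (N.roots ++ [e.a]) ++ Ψc, r < D.nroots := by
      intro r hr
      rcases List.mem_append.1 hr with hr | hr
      · rcases List.mem_append.1 hr with hr | hr
        · exact hlt r hr
        · rw [List.mem_singleton.1 hr]
          exact hal
      · exact ((hpsi r).1 (List.mem_of_mem_filter hr)).1.1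
    obtain ⟨g, hg, hf⟩ := runPath_sound (F := F) hS hG hT e.path _ _ hlt' hL
    obtain ⟨hperm, hall⟩ := Bool.and_eq_true_iff.1 hpath
    rw [List.isPerm_iff] at hperm
    simp only [List.all_eq_true, List.contains_iff_mem] at hall
    obtain ⟨hroots', hpsi', -⟩ := node_facts hT htree hjl
    set M := nodeAt Ns e.child
    have hf1 := List.forall₂_take (N.roots.length + 1) hf
    have hf2 := List.forall₂_drop (N.roots.length + 1) hf
    rw [List.take_left' (by simp)] at hf1
    rw [List.drop_left' (by simp)] at hf2
    have hprod : g * xS D F (N.roots ++ [e.a]) * g⁻¹ = xS D F M.roots := by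
      rw [prod_of_forall₂ hT hf1]
      refine (List.Perm.prod_eq' (hperm.symm.map _) ?_).symm
      refine List.pairwise_of_forall_mem_list fun x hx y hy => ?_
      obtain ⟨s, hs, rfl⟩ := List.mem_map.1 hx
      obtain ⟨r, hr, rfl⟩ := List.mem_map.1 hy
      refine X_commute hS hG (hroots' s hs).1 (hroots' r hr).1 ?_ 1 1
      rcases (hroots' s hs).2 r hr with rfl | e0
      · rw [hG.pr_self (hroots' r hr).1]
        norm_num
      · rw [e0]
    intro v hv hsq
    have hgv : g * v * g⁻¹ ∈ (glSys hS).US (psiP D M.roots) := by
      refine Subgroup.closure_induction (p := fun v _ => g * v * g⁻¹ ∈ (glSys hS).US (psiP D M.roots))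
        ?_ ?_ ?_ ?_ hv
      · rintro _ ⟨r, hr, t, rfl⟩
        have hrc : r ∈ Ψc := by
          rw [hΨc, List.mem_filter, beq_iff_eq, Tab.pr_eq hT hr.1.1 hal]
          exact ⟨(hpsi r).2 (psiP_append.1 hr).1, (psiP_append.1 hr).2⟩
        obtain ⟨r', hr', -, hrr⟩ := forall₂_image hf2 hrc
        show g * X D r t * g⁻¹ ∈ _
        rw [hrr t]
        exact (glSys hS).x_mem_US ((hpsi' r').1 (hall r' hr')) t
      · simp [one_mem]
      · intro x y _ _ hx hy
        simpa [mul_assoc] using mul_mem hx hy
      · intro x _ hx
        simpa [mul_assoc] using inv_mem hx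
    refine Reach.of_conj hg ?_ (ih e.child hjl (by omega) _ hgv
      (by rw [_root_.conj_mul, hsq, mul_one, mul_inv_cancel]))
    rw [← hprod]
    group

include hS hG in
/-- Every involution of the positive unipotent subgroup is conjugate to a representative. -/
theorem reach_of_mem {v : GL D.Idx F} (hv : v ∈ (glSys hS).Ubar) (hsq : v * v = 1) : Reach D F R v := by
  have h0 : 0 < Ns.length ∧ (nodeAt Ns 0).roots = [] := by
    simp only [treeB, Bool.and_eq_true, decide_eq_true_eq, List.isEmpty_iff] at htree
    exact htree.1
  have h := goal_node hS hG hT htree 0 h0.1 v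
  rw [h0.2] at h
  have hv' : v ∈ (glSys hS).US (psiP D []) :=
    (glSys hS).US_mono (T := posSet D) (T' := psiP D []) (fun r hr => ⟨hr, by simp⟩) hv
  simpa [xS] using h hv' hsq

end Sound

end Cfsg.Agent.EInvol
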